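import Mathlib
import Cfsg.Agent.S0059

/-!
A coprime group of operators fixes a point of an invariant orbit.
-/

set_option autoImplicit false

namespace H51

theorem exists_fixed_in_orbit {Γ : Type*} [Group Γ] [Finite Γ] {X : Type*} [MulAction Γ X]
    (Gs As : Subgroup Γ) (hn : As ≤ Subgroup.normalizer (Gs : Set Γ))
    (hco : (Nat.card As).Coprime (Nat.card Gs)) (hsol : Group.IsSolvable As) (x : X)
    (hinv : ∀ a ∈ As, ∃ g ∈ Gs, a • x = g • x) :
    ∃ g ∈ Gs, ∀ a ∈ As, a • (g • x) = g • x := by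
  let Y : Set X := {y | ∃ g ∈ Gs, y = g • x}
  have hY : ∀ γ ∈ Gs ⊔ As, ∀ y ∈ Y, γ • y ∈ Y := by
    intro γ hγ
    rw [sup_comm] at hγ
    rw [← SetLike.mem_coe, Subgroup.coe_mul_of_left_le_normalizer_right _ _ hn] at hγ
    obtain ⟨a, ha, g, hg, rfl⟩ := Set.mem_mul.mp hγ
    rintro _ ⟨g', hg', rfl⟩
    obtain ⟨g₁, hg₁, e⟩ := hinv a ha
    refine ⟨a * (g * g') * a⁻¹ * g₁, mul_mem ?_ hg₁, ?_⟩
    · exact (Subgroup.mem_normalizer_iff.mp (hn ha) _).mp (mul_mem hg hg')
    · rw [mul_smul, mul_smul (a * (g * g') * a⁻¹) g₁, ← e]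
      simp only [smul_smul]
      group
  set L := Gs ⊔ As
  let K : Subgroup L := Gs.subgroupOf L
  let H : Subgroup L := As.subgroupOf L
  haveI hK : K.Normal := by
    rw [Subgroup.normal_subgroupOf_iff_le_normalizer le_sup_left]
    exact sup_le Subgroup.le_normalizer hn
  have eK : Nat.card K = Nat.card Gs :=
    Nat.card_congr (Subgroup.subgroupOfEquivOfLe le_sup_left).toEquiv
  have eH : Nat.card H = Nat.card As :=
    Nat.card_congr (Subgroup.subgroupOfEquivOfLe le_sup_right).toEquiv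
  have hdis : Disjoint K H := by
    rw [disjoint_iff]
    apply Subgroup.inf_eq_bot_of_coprime
    rw [eK, eH]
    exact hco.symm
  have hsup : K ⊔ H = ⊤ := by
    simp only [K, H]
    rw [← Subgroup.subgroupOf_sup (le_sup_left : Gs ≤ L) (le_sup_right : As ≤ L)]
    exact Subgroup.subgroupOf_self L
  have hc : K.IsComplement' H := Subgroup.isComplement'_of_disjoint_and_mul_eq_univ hdis (by
    rw [← Subgroup.normal_mul, hsup, Subgroup.coe_top])
  have hind : K.index = Nat.card H := hc.symm.index_eq_card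
  haveI hsH : Group.IsSolvable As := hsol
  haveI : Group.IsSolvable (↥L ⧸ K) := by
    haveI : Group.IsSolvable H :=
      solvable_of_surjective (f := (Subgroup.subgroupOfEquivOfLe (le_sup_right : As ≤ L)).symm.toMonoidHom)
        (MulEquiv.surjective _)
    exact solvable_of_surjective (f := hc.symm.QuotientMulEquiv.symm.toMonoidHom)
      (MulEquiv.surjective _)
  have hmem : ∀ (l : L) (y : Y), (l : Γ) • (y : X) ∈ Y := fun l y => hY l l.2 y y.2
  letI : MulAction L Y :=
    { smul := fun l y => ⟨(l : Γ) • (y : X), hmem l y⟩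
      one_smul := fun y => Subtype.ext (one_smul Γ (y : X))
      mul_smul := fun l m y => Subtype.ext (mul_smul (l : Γ) (m : Γ) (y : X)) }
  haveI : Nonempty Y := ⟨⟨x, 1, one_mem _, (one_smul Γ x).symm⟩⟩
  have htrans : MulAction.IsPretransitive K Y := by
    refine ⟨?_⟩
    rintro ⟨_, g, hg, rfl⟩ ⟨_, g', hg', rfl⟩
    refine ⟨⟨⟨g' * g⁻¹, Subgroup.mem_sup_left (mul_mem hg' (inv_mem hg))⟩,
      mul_mem hg' (inv_mem hg)⟩, Subtype.ext ?_⟩
    show (g' * g⁻¹) • g • x = g' • x
    rw [smul_smul, inv_mul_cancel_right]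
  obtain ⟨⟨⟨_, g, hg, rfl⟩, hfix⟩, -⟩ := Cfsg.Agent.S0059.result K H hc
    (by rw [hind, eK, eH]; exact hco.symm) (Or.inr inferInstance) htrans
  exact ⟨g, hg, fun a ha => congrArg Subtype.val (hfix ⟨a, Subgroup.mem_sup_right ha⟩ ha)⟩

end H51
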