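import Cfsg.Agent.H56.QPFam
import Cfsg.Agent.H51.EqZJ.Fixed

/-!
Fixed points in invariant conjugacy orbits of linear maps and of subgroups.
-/

set_option autoImplicit false

namespace H51

open Cfsg H56Q

variable {p : ℕ} [hp : Fact p.Prime] {M : Type*} [AddCommGroup M] [Module (ZMod p) M]
  [FiniteDimensional (ZMod p) M]

theorem finite_end : Finite (Module.End (ZMod p) M) := by
  haveI : Finite M := Module.finite_of_finite (ZMod p)
  exact Finite.of_injective (fun f : Module.End (ZMod p) M => (f : M → M)) DFunLike.coe_injective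

theorem finite_gl : Finite (GLM (ZMod p) M) :=
  haveI := finite_end (p := p) (M := M)
  Finite.of_injective (fun g : GLM (ZMod p) M => (g : Module.End (ZMod p) M)) fun _ _ h => Units.ext h

/-- conjugation of linear maps -/
def cjg (g : GLM (ZMod p) M) (x : Module.End (ZMod p) M) : Module.End (ZMod p) M :=
  (g : Module.End (ZMod p) M) * x * ((g⁻¹ : GLM (ZMod p) M) : Module.End (ZMod p) M)

omit [FiniteDimensional (ZMod p) M] in
theorem cjg_one (x : Module.End (ZMod p) M) : cjg 1 x = x := by simp [cjg]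

omit [FiniteDimensional (ZMod p) M] in
theorem cjg_mul (g h : GLM (ZMod p) M) (x : Module.End (ZMod p) M) :
    cjg (g * h) x = cjg g (cjg h x) := by
  simp only [cjg, Units.val_mul, mul_inv_rev, mul_assoc]

omit [FiniteDimensional (ZMod p) M] in
theorem cjg_inv_cjg (g : GLM (ZMod p) M) (x : Module.End (ZMod p) M) : cjg g⁻¹ (cjg g x) = x := by
  rw [← cjg_mul, inv_mul_cancel, cjg_one]

omit [FiniteDimensional (ZMod p) M] in
theorem cjg_mul_mul (g : GLM (ZMod p) M) (x y : Module.End (ZMod p) M) :
    cjg g (x * y) = cjg g x * cjg g y := by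
  simp only [cjg, mul_assoc, Units.inv_mul_cancel_left]

theorem exists_fixed_end (Gs As : Subgroup (GLM (ZMod p) M))
    (hn : As ≤ Subgroup.normalizer (Gs : Set (GLM (ZMod p) M)))
    (hco : (Nat.card As).Coprime (Nat.card Gs)) (hsol : Group.IsSolvable As)
    (x : Module.End (ZMod p) M) (hinv : ∀ a ∈ As, ∃ g ∈ Gs, cjg a x = cjg g x) :
    ∃ g ∈ Gs, ∀ a ∈ As, cjg a (cjg g x) = cjg g x :=
  haveI := finite_gl (p := p) (M := M)
  letI : MulAction (GLM (ZMod p) M) (Module.End (ZMod p) M) :=
    { smul := cjg, one_smul := cjg_one, mul_smul := cjg_mul }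
  exists_fixed_in_orbit Gs As hn hco hsol x hinv

omit [FiniteDimensional (ZMod p) M] in
theorem conjBy_comp (E : Subgroup (GLM (ZMod p) M)) (g h : GLM (ZMod p) M) :
    conjBy (conjBy E h) g = conjBy E (g * h) := by
  rw [conjBy, conjBy, conjBy, Subgroup.map_map]
  rw [map_mul]
  rfl

omit [FiniteDimensional (ZMod p) M] in
theorem conjBy_id (E : Subgroup (GLM (ZMod p) M)) : conjBy E 1 = E := by
  rw [conjBy]
  convert Subgroup.map_id E using 2
  ext z
  simp

theorem exists_fixed_subgroup (Gs As : Subgroup (GLM (ZMod p) M))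
    (hn : As ≤ Subgroup.normalizer (Gs : Set (GLM (ZMod p) M)))
    (hco : (Nat.card As).Coprime (Nat.card Gs)) (hsol : Group.IsSolvable As)
    (E : Subgroup (GLM (ZMod p) M)) (hinv : ∀ a ∈ As, ∃ g ∈ Gs, conjBy E a = conjBy E g) :
    ∃ g ∈ Gs, ∀ a ∈ As, conjBy (conjBy E g) a = conjBy E g :=
  haveI := finite_gl (p := p) (M := M)
  letI : MulAction (GLM (ZMod p) M) (Subgroup (GLM (ZMod p) M)) :=
    { smul := fun g H => conjBy H g
      one_smul := conjBy_id
      mul_smul := fun g h H => (conjBy_comp H g h).symm }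
  exists_fixed_in_orbit Gs As hn hco hsol E hinv

end H51
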