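import Cfsg.Agent.H51.EqZJ.Partner

/-!
A group with quadratic elements and no normal `p`-subgroup contains, in the fixed points of a
coprime group of operators of odd order, an image of `SL₂(p)`.
-/

set_option autoImplicit false
set_option linter.unusedSectionVars false

namespace H51

open Cfsg LinearMap H56Q

variable {p : ℕ} [hp : Fact p.Prime] {M : Type*} [AddCommGroup M] [Module (ZMod p) M]
  [FiniteDimensional (ZMod p) M]
variable {G E : Subgroup (GLM (ZMod p) M)} {a v x : Module.End (ZMod p) M}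
  {β : GLM (ZMod p) M}

theorem fam_cjg (hβ : β ∈ Subgroup.normalizer (G : Set (GLM (ZMod p) M))) (h : Fam G x) :
    Fam G (cjg β x) := by
  refine ⟨?_, fun c => ?_⟩
  · rw [← cjg_mul_mul, h.1]; simp [cjg]
  · obtain ⟨g, hg, e⟩ := h.2 c
    refine ⟨β * g * β⁻¹, (Subgroup.mem_normalizer_iff.mp hβ g).mp hg, ?_⟩
    rw [conj_coe β e, mul_smul_comm, smul_mul_assoc]
    rfl

theorem cjg_ne_zero (β : GLM (ZMod p) M) (h : x ≠ 0) : cjg β x ≠ 0 := fun e => h (by
  rw [← cjg_inv_cjg β x, e]; simp [cjg])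

theorem minQ_cjg (hβ : β ∈ Subgroup.normalizer (G : Set (GLM (ZMod p) M))) (h : MinQ G x) :
    MinQ G (cjg β x) :=
  ⟨fam_cjg hβ h.fam, cjg_ne_zero β h.ne, fun y hy hy0 => (rk_conj β x).trans_le (h.min y hy hy0)⟩

theorem inRoot_normalizer (hβ : β ∈ Subgroup.normalizer (G : Set (GLM (ZMod p) M)))
    (h : InRoot G a x) : InRoot G (cjg β a) (cjg β x) := by
  refine ⟨fam_cjg hβ h.1, ?_, fun m hm => ?_⟩
  · rintro _ ⟨m, rfl⟩
    obtain ⟨n, hn⟩ := h.2.1 (mem_range_self x (((β⁻¹ : GLM (ZMod p) M) : Module.End (ZMod p) M) m))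
    refine ⟨(β : Module.End (ZMod p) M) n, ?_⟩
    simp only [cjg, Module.End.mul_apply,
      ← Module.End.mul_apply ((β⁻¹ : GLM (ZMod p) M) : Module.End (ZMod p) M),
      Units.inv_mul, Module.End.one_apply, hn]
  · show (β : Module.End (ZMod p) M) (x _) = 0
    have : a (((β⁻¹ : GLM (ZMod p) M) : Module.End (ZMod p) M) m) = 0 := by
      have h' := congrArg ((β⁻¹ : GLM (ZMod p) M) : Module.End (ZMod p) M)
        (hm : (β : Module.End (ZMod p) M) (a _) = 0)
      rw [map_zero] at h'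
      exact (LinearMap.congr_fun (Units.inv_mul β) _).symm.trans h'
    rw [(h.2.2 this : x _ = 0), map_zero]

theorem isRootOf_normalizer (hβ : β ∈ Subgroup.normalizer (G : Set (GLM (ZMod p) M)))
    (h : IsRootOf G E a) : IsRootOf G (conjBy E β) (cjg β a) := by
  refine ⟨minQ_cjg hβ h.1, fun g => ?_⟩
  have hmem : g ∈ conjBy E β ↔ β⁻¹ * g * β ∈ E := by
    constructor
    · rintro ⟨s, hs, rfl⟩
      simpa [MulAut.conj_apply, mul_assoc] using hs
    · intro hs
      exact ⟨_, hs, by simp [MulAut.conj_apply, mul_assoc]⟩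
  have e : ((β⁻¹ * g * β : GLM (ZMod p) M) : Module.End (ZMod p) M) - 1 =
      cjg β⁻¹ ((g : Module.End (ZMod p) M) - 1) := by
    rw [cjg, inv_inv, mul_sub, sub_mul, mul_one, Units.inv_mul, Units.val_mul, Units.val_mul]
  rw [hmem, h.2, e]
  constructor
  · intro h'
    have := inRoot_normalizer hβ h'
    rwa [← cjg_mul, mul_inv_cancel, cjg_one] at this
  · intro h'
    have := inRoot_normalizer (inv_mem hβ) h'
    rwa [cjg_inv_cjg] at this

theorem noncommProd_congr_multiset {Γ : Type*} [Monoid Γ] {s t : Multiset Γ} (h : s = t) (hs ht) :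
    Multiset.noncommProd s hs = Multiset.noncommProd t ht := by
  subst h; rfl

/-- the product of the members of an operator orbit of pairwise commuting maps from `SL₂(p)` -/
theorem exists_centralized_of_family {As : Subgroup (GLM (ZMod p) M)} {ι : Type*} [Fintype ι]
    [Nonempty ι] (f : ι → Matrix.SpecialLinearGroup (Fin 2) (ZMod p) →* GLM (ZMod p) M)
    (hinj : ∀ i, Function.Injective (f i)) (hG : ∀ i g, f i g ∈ G)
    (hcomm : ∀ i j, i ≠ j → ∀ x y, Commute (f i x) (f j y))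
    (hperm : ∀ α ∈ As, ∃ σ : Equiv.Perm ι, ∀ i g, α * f i g * α⁻¹ = f (σ i) g) :
    ∃ Ψ : Matrix.SpecialLinearGroup (Fin 2) (ZMod p) →* GLM (ZMod p) M,
      (∀ g, Ψ g ∈ G ⊓ Subgroup.centralizer (As : Set (GLM (ZMod p) M))) ∧ ∃ g, Ψ g ≠ 1 := by
  classical
  let Ψ := (MonoidHom.noncommPiCoprod f fun i j hij => hcomm i j hij).comp
    (Pi.monoidHom fun _ => MonoidHom.id _)
  have hpw : ∀ g, ((Finset.univ : Finset ι) : Set ι).Pairwise
      (Function.onFun Commute fun i => f i g) := fun g i _ j _ hij => hcomm i j hij g g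
  have hΨ : ∀ g, Ψ g = Finset.univ.noncommProd (fun i => f i g) (hpw g) := fun g => rfl
  refine ⟨Ψ, fun g => ⟨?_, ?_⟩, ?_⟩
  · rw [hΨ]
    exact Subgroup.noncommProd_mem G (hpw g) fun i _ => hG i g
  · show Ψ g ∈ Subgroup.centralizer (As : Set (GLM (ZMod p) M))
    rw [Subgroup.mem_centralizer_iff]
    intro α hα
    obtain ⟨σ, hσ⟩ := hperm α hα
    have e : α * Ψ g * α⁻¹ = Ψ g := by
      rw [hΨ, ← MulAut.conj_apply, ← MulEquiv.coe_toMonoidHom, Finset.map_noncommProd]
      refine noncommProd_congr_multiset ?_ _ _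
      conv_rhs => rw [← Multiset.map_univ_val_equiv σ, Multiset.map_map]
      exact Multiset.map_congr rfl fun i _ => hσ i g
    exact mul_inv_eq_iff_eq_mul.mp e
  · by_contra hcon
    push Not at hcon
    let i₀ : ι := Classical.arbitrary ι
    have hab : ∀ x y, Commute (f i₀ x) (f i₀ y) := by
      intro x y
      have h := hcon x
      rw [hΨ, ← Finset.mul_noncommProd_erase _ (Finset.mem_univ i₀) _ (hpw x)] at h
      rw [eq_inv_of_mul_eq_one_left h]
      refine (Commute.inv_left (Commute.symm ?_))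
      refine Finset.noncommProd_commute _ _ _ _ fun j hj => hcomm i₀ j ?_ y x
      exact (Finset.mem_erase.mp hj).1.symm
    have h := hinj i₀ ((map_mul (f i₀) (upr 1) (lwr 1)).trans
      ((hab _ _).eq.trans (map_mul (f i₀) _ _).symm))
    have := congrArg (fun g : Matrix.SpecialLinearGroup (Fin 2) (ZMod p) => g 0 0) h
    simp [mul00] at this

theorem exists_minQ (ha : Fam G a) (h0 : a ≠ 0) : ∃ b, MinQ G b := by
  classical
  have hex : ∃ n, ∃ x, Fam G x ∧ x ≠ 0 ∧ rk x = n := ⟨_, a, ha, h0, rfl⟩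
  obtain ⟨x, hx, hx0, e⟩ := Nat.find_spec hex
  exact ⟨x, hx, hx0, fun y hy hy0 => e ▸ Nat.find_min' hex ⟨y, hy, hy0, rfl⟩⟩

theorem exists_centralized_sl2 (hp5 : 5 ≤ p) (G As : Subgroup (GLM (ZMod p) M))
    (hn : As ≤ Subgroup.normalizer (G : Set (GLM (ZMod p) M)))
    (hco : (Nat.card As).Coprime (Nat.card G)) (hodd : Odd (Nat.card As))
    (hsol : Group.IsSolvable As) (hop : NoNormalP p G) (hfam : Fam G a) (ha0 : a ≠ 0) :
    ∃ Ψ : Matrix.SpecialLinearGroup (Fin 2) (ZMod p) →* GLM (ZMod p) M,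
      (∀ g, Ψ g ∈ G ⊓ Subgroup.centralizer (As : Set (GLM (ZMod p) M))) ∧ ∃ g, Ψ g ≠ 1 := by
  classical
  haveI := finite_gl (p := p) (M := M)
  obtain ⟨b₀, hb₀⟩ := exists_minQ hfam ha0
  obtain ⟨E₀, hE₀⟩ := exists_root_subgroup hb₀
  have hconj : ∀ α ∈ As, ∀ g ∈ G, α * g * α⁻¹ ∈ G := fun α hα g hg =>
    (Subgroup.mem_normalizer_iff.mp (hn hα) g).mp hg
  let B : Subgroup (GLM (ZMod p) M) :=
    { carrier := {α | α ∈ As ∧ ∃ g ∈ G, conjBy E₀ α = conjBy E₀ g}
      one_mem' := ⟨one_mem As, 1, one_mem G, rfl⟩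
      mul_mem' := by
        rintro α α' ⟨hα, g, hg, e⟩ ⟨hα', g', hg', e'⟩
        refine ⟨mul_mem hα hα', α * g' * α⁻¹ * g, mul_mem (hconj α hα g' hg') hg, ?_⟩
        rw [← conjBy_comp, e', conjBy_comp, ← conjBy_comp E₀ (α * g' * α⁻¹) g, ← e, conjBy_comp]
        congr 1
        group
      inv_mem' := by
        rintro α ⟨hα, g, hg, e⟩
        refine ⟨inv_mem hα, α⁻¹ * g⁻¹ * α⁻¹⁻¹, hconj _ (inv_mem hα) _ (inv_mem hg), ?_⟩
        rw [← conjBy_comp E₀ (α⁻¹ * g⁻¹) α⁻¹⁻¹, inv_inv, e, conjBy_comp, inv_mul_cancel_right] }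
  have hBA : B ≤ As := fun _ h => h.1
  have hcoB : (Nat.card B).Coprime (Nat.card G) :=
    hco.coprime_dvd_left (Subgroup.card_dvd_of_le hBA)
  have hoddB : Odd (Nat.card B) := hodd.of_dvd_nat (Subgroup.card_dvd_of_le hBA)
  haveI := hsol
  have hsolB : Group.IsSolvable B :=
    solvable_of_solvable_injective (f := Subgroup.inclusion hBA) (Subgroup.inclusion_injective hBA)
  have hnB : B ≤ Subgroup.normalizer (G : Set (GLM (ZMod p) M)) := hBA.trans hn
  obtain ⟨g₁, hg₁, hfixE⟩ := exists_fixed_subgroup G B hnB hcoB hsolB E₀ fun α hα => hα.2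
  have hE₁ : IsRootOf G (conjBy E₀ g₁) (cjg g₁ b₀) := hE₀.conj hg₁
  obtain ⟨a', ha', ha'0, hfixa⟩ :=
    exists_fixed_root_elt hp5 hop B hnB hcoB hoddB hsolB hE₁ hfixE
  have hEa := hE₁.change ha' ha'0
  obtain ⟨v, P, hfixv⟩ := exists_fixed_partner hp5 hop B hnB hcoB hsolB
    (fun α hα y hy => minQ_cjg (hnB hα) hy) hEa.1 hfixa
  -- the root subgroup of the partner lies in the same class
  set w := weyl v a' P.mv.sq P.ma.sq
  have hwG : w ∈ G := weyl_mem P.mv.fam P.ma.fam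
  have hwa : cjg w a' = -v := by
    rw [cjg_weyl P.mv.sq P.ma.sq P.vav P.ava (InRoot.self P.ma.fam), P.vav]
  set E := conjBy E₀ g₁
  set F := conjBy E₀ (w * g₁)
  have hF : IsRootOf G F v := by
    have h := hEa.conj hwG
    rw [← cjg, hwa, conjBy_comp] at h
    refine h.change ?_ P.mv.ne
    simpa using (InRoot.self h.1.fam).smul (-1)
  -- members of different classes commute
  have hdiff : ∀ α ∈ As, α ∉ B → ∀ (X : Subgroup (GLM (ZMod p) M)) (gX : GLM (ZMod p) M),
      gX ∈ G → X = conjBy E₀ gX → ∀ (Y : Subgroup (GLM (ZMod p) M)) (gY : GLM (ZMod p) M),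
      gY ∈ G → Y = conjBy E₀ gY → ∀ x ∈ X, ∀ y ∈ Y, Commute x (α * y * α⁻¹) := by
    intro α hα hαB X gX hgX hX Y gY hgY hY x hx y hy
    subst hX hY
    refine commute_of_not_conj hp5 hop (hE₀.conj hgX)
      (isRootOf_normalizer (hn hα) (hE₀.conj hgY)) ?_ x hx (α * y * α⁻¹) ⟨y, hy, rfl⟩
    intro g hg e
    apply hαB
    refine ⟨hα, (α * gY * α⁻¹)⁻¹ * (g * gX),
      mul_mem (inv_mem (hconj α hα gY hgY)) (mul_mem hg hgX), ?_⟩
    rw [conjBy_comp, conjBy_comp] at e
    rw [← conjBy_comp, ← e, conjBy_comp]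
    congr 1
    group
  have hu : ∀ c : ZMod p, P.sl (upr c) ∈ E := fun c => by
    rw [hEa.2, P.sl_upr, add_sub_cancel_left]
    exact (InRoot.self P.ma.fam).smul c
  have hl : ∀ c : ZMod p, P.sl (lwr c) ∈ F := fun c => by
    rw [hF.2, P.sl_lwr, add_sub_cancel_left]
    exact (InRoot.self P.mv.fam).smul c
  have hcom : ∀ α ∈ As, α ∉ B → ∀ x y, Commute (P.sl x) (α * P.sl y * α⁻¹) := by
    intro α hα hαB x y
    have step : ∀ x, (x ∈ E ∨ x ∈ F) → ∀ y, Commute x (α * P.sl y * α⁻¹) := by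
      intro x hx y
      have : ((Subgroup.centralizer ({x} : Set (GLM (ZMod p) M))).comap
          ((MulAut.conj α).toMonoidHom.comp P.sl)) = ⊤ := by
        refine sl2_generated _ (fun c => ?_) (fun c => ?_) <;>
          refine Subgroup.mem_centralizer_singleton_iff.mpr ?_ <;>
          show α * _ * α⁻¹ * x = x * (α * _ * α⁻¹) <;>
          refine Eq.symm ?_
        · rcases hx with hx | hx
          · exact hdiff α hα hαB E g₁ hg₁ rfl E g₁ hg₁ rfl x hx _ (hu c)
          · exact hdiff α hα hαB F _ (mul_mem hwG hg₁) rfl E g₁ hg₁ rfl x hx _ (hu c)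
        · rcases hx with hx | hx
          · exact hdiff α hα hαB E g₁ hg₁ rfl F _ (mul_mem hwG hg₁) rfl x hx _ (hl c)
          · exact hdiff α hα hαB F _ (mul_mem hwG hg₁) rfl F _ (mul_mem hwG hg₁) rfl x hx _ (hl c)
      exact (Subgroup.mem_centralizer_singleton_iff.mp
        (this.symm ▸ Subgroup.mem_top y : y ∈ (Subgroup.centralizer ({x} : Set (GLM (ZMod p) M))).comap
          ((MulAut.conj α).toMonoidHom.comp P.sl))).symm
    have : (Subgroup.centralizer ({α * P.sl y * α⁻¹} : Set (GLM (ZMod p) M))).comap P.sl = ⊤ :=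
      sl2_generated _
        (fun c => Subgroup.mem_centralizer_singleton_iff.mpr (step _ (Or.inl (hu c)) y).eq)
        (fun c => Subgroup.mem_centralizer_singleton_iff.mpr (step _ (Or.inr (hl c)) y).eq)
    exact Subgroup.mem_centralizer_singleton_iff.mp (this.symm ▸ Subgroup.mem_top x :
      x ∈ (Subgroup.centralizer ({α * P.sl y * α⁻¹} : Set (GLM (ZMod p) M))).comap P.sl)
  -- the conjugates under the cosets of `B`
  let Bq : Subgroup As := B.subgroupOf As
  haveI : Fintype (As ⧸ Bq) := Fintype.ofFinite _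
  let f : As ⧸ Bq → Matrix.SpecialLinearGroup (Fin 2) (ZMod p) →* GLM (ZMod p) M :=
    fun q => (MulAut.conj (q.out : GLM (ZMod p) M)).toMonoidHom.comp P.sl
  refine exists_centralized_of_family f (fun q => ?_) (fun q g => ?_) (fun q r hqr x y => ?_) ?_
  · exact (MulAut.conj _).injective.comp P.sl_injective
  · exact hconj _ q.out.2 _ (P.sl_mem g)
  · have hnB' : (q.out : GLM (ZMod p) M)⁻¹ * (r.out : GLM (ZMod p) M) ∉ B := fun h => hqr (by
      rw [← QuotientGroup.out_eq' q, ← QuotientGroup.out_eq' r, QuotientGroup.eq]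
      exact h)
    have := (hcom _ (mul_mem (inv_mem q.out.2) r.out.2) hnB' x y).map
      (MulAut.conj (q.out : GLM (ZMod p) M)).toMonoidHom
    simpa [f, MulAut.conj_apply, mul_assoc] using this
  · intro α hα
    refine ⟨MulAction.toPerm (⟨α, hα⟩ : As), fun q g => ?_⟩
    set r := ((⟨α, hα⟩ : As) • q).out with hr
    have hb : ((r : GLM (ZMod p) M))⁻¹ * (α * q.out) ∈ B := by
      have h : (QuotientGroup.mk r : As ⧸ Bq) = QuotientGroup.mk (⟨α, hα⟩ * q.out) := by
        rw [hr, QuotientGroup.out_eq']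
        conv_lhs => rw [← QuotientGroup.out_eq' q]
        exact MulAction.Quotient.smul_mk Bq _ _
      have h' : (r⁻¹ * (⟨α, hα⟩ * q.out) : As) ∈ Bq := QuotientGroup.eq.mp h
      exact h'
    have hc := (P.sl_commute (hfixa _ hb) (hfixv _ hb) g).eq
    show α * ((q.out : GLM (ZMod p) M) * P.sl g * (q.out : GLM (ZMod p) M)⁻¹) * α⁻¹ =
      (r : GLM (ZMod p) M) * P.sl g * (r : GLM (ZMod p) M)⁻¹
    calc α * ((q.out : GLM (ZMod p) M) * P.sl g * (q.out : GLM (ZMod p) M)⁻¹) * α⁻¹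
        = (r : GLM (ZMod p) M) * (((r : GLM (ZMod p) M))⁻¹ * (α * q.out) * P.sl g) *
            (((r : GLM (ZMod p) M))⁻¹ * (α * q.out))⁻¹ * (r : GLM (ZMod p) M)⁻¹ := by group
      _ = _ := by rw [hc]; group

end H51
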