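import Cfsg.Agent.H51.EqZJ.Conj
import Cfsg.Agent.H10.QuadGroup
import Cfsg.Agent.H1.Cores

/-!
A quadratic element outside `O_p` survives in a section of the module without normal
`p`-subgroups.
-/

set_option autoImplicit false
set_option linter.unusedSectionVars false

namespace H51

open Cfsg LinearMap H56Q

universe u

variable {p : ℕ} [hp : Fact p.Prime] {Y : Type*} [Group Y] [Finite Y]

/-- the element lies in no normal subgroup whose image is a `p`-group -/
def Outside {M : Type*} [AddCommGroup M] [Module (ZMod p) M] (ρ : Y →* GLM (ZMod p) M) (a : Y) : Prop :=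
  ∀ D : Subgroup Y, D.Normal → a ∈ D → ¬ IsPGroup p (D.map ρ)

section

variable {M : Type*} [AddCommGroup M] [Module (ZMod p) M]

theorem exists_fixed_vector [FiniteDimensional (ZMod p) M] (N : Subgroup (GLM (ZMod p) M))
    (hN : IsPGroup p N) (hM : Nontrivial M) :
    ∃ m : M, m ≠ 0 ∧ ∀ g ∈ N, (g : Module.End (ZMod p) M) m = m := by
  haveI : Finite M := Module.finite_of_finite (ZMod p)
  letI : MulAction N M :=
    { smul := fun g m => (g : GLM (ZMod p) M).val m
      one_smul := fun m => rfl
      mul_smul := fun g h m => rfl }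
  haveI : Fintype M := Fintype.ofFinite M
  have hdvd : p ∣ Nat.card M := by
    rw [Module.natCard_eq_pow_finrank (K := ZMod p), Nat.card_zmod]
    exact dvd_pow_self p (Module.finrank_pos (R := ZMod p) (M := M)).ne'
  obtain ⟨m, hm, hne⟩ := hN.exists_fixed_point_of_prime_dvd_card_of_fixed_point M hdvd
    (a := 0) (fun g => map_zero (g : GLM (ZMod p) M).val)
  exact ⟨m, hne.symm, fun g hg => hm ⟨g, hg⟩⟩

/-- the representation on an invariant subspace -/
noncomputable def subRep (ρ : Y →* GLM (ZMod p) M) (W : Submodule (ZMod p) M)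
    (h : ∀ y, ∀ w ∈ W, (ρ y : Module.End (ZMod p) M) w ∈ W) : Y →* GLM (ZMod p) W :=
  MonoidHom.toHomUnits
    { toFun := fun y => (ρ y : Module.End (ZMod p) M).restrict (h y)
      map_one' := LinearMap.ext fun w => Subtype.ext (by simp)
      map_mul' := fun y z => LinearMap.ext fun w => Subtype.ext (by simp) }

/-- the representation on the quotient by an invariant subspace -/
noncomputable def quotRep (ρ : Y →* GLM (ZMod p) M) (W : Submodule (ZMod p) M)
    (h : ∀ y, ∀ w ∈ W, (ρ y : Module.End (ZMod p) M) w ∈ W) : Y →* GLM (ZMod p) (M ⧸ W) :=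
  MonoidHom.toHomUnits
    { toFun := fun y => W.mapQ W (ρ y : Module.End (ZMod p) M) (h y)
      map_one' := by
        refine LinearMap.ext fun q => ?_
        obtain ⟨m, rfl⟩ := W.mkQ_surjective q
        simp
      map_mul' := fun y z => by
        refine LinearMap.ext fun q => ?_
        obtain ⟨m, rfl⟩ := W.mkQ_surjective q
        simp }

end

theorem exists_rep_no_normal {a : Y} :
    ∀ (n : ℕ) {M : Type u} [AddCommGroup M] [Module (ZMod p) M] [FiniteDimensional (ZMod p) M]
      (ρ : Y →* GLM (ZMod p) M), Module.finrank (ZMod p) M = n →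
      ((ρ a : Module.End (ZMod p) M) - 1) * ((ρ a : Module.End (ZMod p) M) - 1) = 0 →
      Outside ρ a →
      ∀ (P : Prop), (∀ (M' : Type u) [AddCommGroup M'] [Module (ZMod p) M']
        [FiniteDimensional (ZMod p) M'] (σ : Y →* GLM (ZMod p) M'),
        ((σ a : Module.End (ZMod p) M') - 1) * ((σ a : Module.End (ZMod p) M') - 1) = 0 →
        σ a ≠ 1 → (∀ D : Subgroup Y, D.Normal → IsPGroup p (D.map σ) → D.map σ = ⊥) → P) → P := by
  intro n
  induction n using Nat.strong_induction_on with
  | _ n ih =>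
    intro M _ _ _ ρ hn hq hout P hP
    by_cases hcase : ∀ D : Subgroup Y, D.Normal → IsPGroup p (D.map ρ) → D.map ρ = ⊥
    · refine hP M ρ hq (fun h => ?_) hcase
      refine hout ρ.ker inferInstance (MonoidHom.mem_ker.mpr h) ?_
      rw [(Subgroup.map_eq_bot_iff _).mpr le_rfl]
      exact IsPGroup.of_bot
    push Not at hcase
    obtain ⟨D, hD, hDp, hD1⟩ := hcase
    let W : Submodule (ZMod p) M := ⨅ y ∈ D, LinearMap.ker ((ρ y : Module.End (ZMod p) M) - 1)
    have hW : ∀ m, m ∈ W ↔ ∀ y ∈ D, (ρ y : Module.End (ZMod p) M) m = m := fun m => by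
      simp [W, Submodule.mem_iInf, sub_eq_zero]
    have hinv : ∀ y, ∀ w ∈ W, (ρ y : Module.End (ZMod p) M) w ∈ W := by
      intro y w hw
      rw [hW] at hw ⊢
      intro z hz
      have h1 := hw _ (hD.conj_mem z hz y⁻¹)
      rw [inv_inv] at h1
      conv_rhs => rw [← h1]
      rw [← Module.End.mul_apply, ← Module.End.mul_apply, ← Units.val_mul, ← Units.val_mul,
        ← map_mul, ← map_mul]
      congr 3
      group
    have hMnt : Nontrivial M := by
      by_contra hnt
      rw [not_nontrivial_iff_subsingleton] at hnt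
      exact hD1 (eq_bot_iff.mpr fun g _ => Subgroup.mem_bot.mpr
        (Units.ext (LinearMap.ext fun m => Subsingleton.elim _ _)))
    obtain ⟨m₀, hm₀, hfix⟩ := exists_fixed_vector (D.map ρ) hDp hMnt
    have hW0 : W ≠ ⊥ := fun e => hm₀ (by
      have : m₀ ∈ W := (hW m₀).mpr fun y hy => hfix _ ⟨y, hy, rfl⟩
      rwa [e, Submodule.mem_bot] at this)
    have hW1 : W ≠ ⊤ := fun e => hD1 (eq_bot_iff.mpr (by
      rintro _ ⟨y, hy, rfl⟩
      rw [Subgroup.mem_bot]
      exact Units.ext (LinearMap.ext fun m => (hW m).mp (e ▸ Submodule.mem_top) y hy)))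
    have hlt1 : Module.finrank (ZMod p) W < n := hn ▸ Submodule.finrank_lt hW1
    have hlt2 : Module.finrank (ZMod p) (M ⧸ W) < n := by
      have e := Submodule.finrank_quotient_add_finrank W
      have : 0 < Module.finrank (ZMod p) W :=
        Nat.pos_of_ne_zero fun h => hW0 (Submodule.finrank_eq_zero.mp h)
      omega
    have hqm : ∀ m, (ρ a : Module.End (ZMod p) M) ((ρ a : Module.End (ZMod p) M) m - m) -
        ((ρ a : Module.End (ZMod p) M) m - m) = 0 := fun m => LinearMap.congr_fun hq m
    by_cases hs : Outside (subRep ρ W hinv) a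
    · exact ih _ hlt1 (subRep ρ W hinv) rfl
        (LinearMap.ext fun w => Subtype.ext (hqm w)) hs P hP
    by_cases hQ : Outside (quotRep ρ W hinv) a
    · refine ih _ hlt2 (quotRep ρ W hinv) rfl (LinearMap.ext fun q => ?_) hQ P hP
      obtain ⟨m, rfl⟩ := W.mkQ_surjective q
      exact (congrArg (Submodule.Quotient.mk (p := W)) (hqm m)).trans (Submodule.Quotient.mk_zero W)
    exfalso
    simp only [Outside, not_forall, not_not] at hs hQ
    obtain ⟨D₁, hD₁, ha₁, hp₁⟩ := hs
    obtain ⟨D₂, hD₂, ha₂, hp₂⟩ := hQ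
    haveI := hD₁
    haveI := hD₂
    refine hout (D₁ ⊓ D₂) inferInstance ⟨ha₁, ha₂⟩ ?_
    haveI : CharP (Module.End (ZMod p) M) p :=
      charP_of_injective_algebraMap (algebraMap (ZMod p) (Module.End (ZMod p) M)).injective p
    rintro ⟨_, y, hy, rfl⟩
    obtain ⟨k₁, hk₁⟩ := hp₁ ⟨_, y, hy.1, rfl⟩
    obtain ⟨k₂, hk₂⟩ := hp₂ ⟨_, y, hy.2, rfl⟩
    have e1 := congrArg Subtype.val hk₁
    have e2 := congrArg Subtype.val hk₂
    simp only [SubgroupClass.coe_pow, OneMemClass.coe_one, ← map_pow] at e1 e2
    set z := y ^ p ^ (k₁ + k₂) with hz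
    have z1 : subRep ρ W hinv z = 1 := by
      rw [hz, pow_add, pow_mul, map_pow, e1, one_pow]
    have z2 : quotRep ρ W hinv z = 1 := by
      rw [hz, pow_add, mul_comm, pow_mul, map_pow, e2, one_pow]
    have hsq : ((ρ z : Module.End (ZMod p) M) - 1) ^ 2 = 0 := by
      refine LinearMap.ext fun m => ?_
      have hm : (ρ z : Module.End (ZMod p) M) m - m ∈ W := by
        rw [← Submodule.Quotient.eq]
        exact LinearMap.congr_fun (congrArg Units.val z2) (Submodule.Quotient.mk m)
      show (ρ z : Module.End (ZMod p) M) ((ρ z : Module.End (ZMod p) M) m - m) -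
        ((ρ z : Module.End (ZMod p) M) m - m) = 0
      rw [sub_eq_zero]
      exact congrArg Subtype.val (LinearMap.congr_fun (congrArg Units.val z1) ⟨_, hm⟩)
    refine ⟨k₁ + k₂ + 1, Subtype.ext (Units.ext ?_)⟩
    have hzp : ((ρ z : Module.End (ZMod p) M) - 1) ^ p ^ 1 = 0 :=
      pow_eq_zero_of_le (by rw [pow_one]; exact hp.out.two_le) hsq
    rw [sub_pow_char_pow_of_commute _ _ (Commute.one_right _), one_pow, sub_eq_zero, pow_one] at hzp
    show ((ρ y ^ p ^ (k₁ + k₂ + 1) : GLM (ZMod p) M) : Module.End (ZMod p) M) = 1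
    rw [pow_succ (p : ℕ) (k₁ + k₂), pow_mul, ← map_pow, Units.val_pow_eq_pow_val, ← hz]
    exact hzp

/-- the linear maps of an action by additive maps -/
def linHom {Z M : Type*} [Group Z] [AddCommGroup M] [Module (ZMod p) M] (f : Z → M →+ M)
    (f1 : ∀ x, f 1 x = x) (fm : ∀ g h x, f (g * h) x = f g (f h x)) :
    Z →* Module.End (ZMod p) M where
  toFun h := (f h).toZModLinearMap p
  map_one' := LinearMap.ext fun x => by simp [f1]
  map_mul' g h := LinearMap.ext fun x => by simp [fm]

/-- the action on an elementary abelian normal subgroup, with a quadratic element outside `O_p` -/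
theorem exists_quad_rep {Y : Type u} [Group Y] [Finite Y] {V : Subgroup Y} [V.Normal] (hV : IsElementaryAbelian p V) {a : Y}
    (hq : H10.IsQuadOn V a)
    (hna : (QuotientGroup.mk a : Y ⧸ Subgroup.centralizer (V : Set Y)) ∉
      pCore p (Y ⧸ Subgroup.centralizer (V : Set Y))) (P : Prop)
    (hP : ∀ (M : Type u) [AddCommGroup M] [Module (ZMod p) M]
      [FiniteDimensional (ZMod p) M] (σ : Y →* GLM (ZMod p) M),
      ((σ a : Module.End (ZMod p) M) - 1) * ((σ a : Module.End (ZMod p) M) - 1) = 0 →
      σ a ≠ 1 → (∀ D : Subgroup Y, D.Normal → IsPGroup p (D.map σ) → D.map σ = ⊥) → P) : P := by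
  letI : CommGroup V := { (inferInstance : Group V) with mul_comm := hV.1.is_comm.comm }
  haveI : Module (ZMod p) (Additive V) :=
    AddCommGroup.zmodModule (fun x => by
      apply Additive.toMul.injective
      exact Subtype.ext (by simpa using hV.2 _ (Additive.toMul x).2))
  haveI : Finite (Additive V) := Finite.of_equiv V Additive.ofMul
  haveI : FiniteDimensional (ZMod p) (Additive V) := Module.Finite.of_finite
  let cj : Y →* MulAut V := MulAut.conjNormal
  let f : Y → Additive V →+ Additive V := fun y => MonoidHom.toAdditive (cj y).toMonoidHom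
  let lin : Y →* Module.End (ZMod p) (Additive V) := linHom (p := p) f
    (fun x => by simp [f, cj]) (fun g h x => by simp [f, cj])
  let ρ : Y →* GLM (ZMod p) (Additive V) := lin.toHomUnits
  have hval : ∀ (y : Y) (x : Additive V),
      ((Additive.toMul ((ρ y : Module.End (ZMod p) (Additive V)) x) : V) : Y) =
        y * ((Additive.toMul x : V) : Y) * y⁻¹ := fun y x => rfl
  have hker : ∀ y, ρ y = 1 → y ∈ Subgroup.centralizer (V : Set Y) := by
    intro y hy
    rw [Subgroup.mem_centralizer_iff]
    intro v hv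
    have h2 := hval y (Additive.ofMul ⟨v, hv⟩)
    rw [hy] at h2
    exact (mul_inv_eq_iff_eq_mul.mp h2.symm).symm
  refine exists_rep_no_normal _ ρ rfl (LinearMap.ext fun x => ?_) ?_ P hP
  · apply Additive.toMul.injective
    apply Subtype.ext
    have hy : ((Additive.toMul ((ρ a : Module.End (ZMod p) (Additive V)) x - x) : V) : Y) =
        a * (Additive.toMul x : V) * a⁻¹ * ((Additive.toMul x : V) : Y)⁻¹ := by
      rw [toMul_sub, div_eq_mul_inv, Subgroup.coe_mul, Subgroup.coe_inv, hval]
    show ((Additive.toMul ((ρ a : Module.End (ZMod p) (Additive V))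
        ((ρ a : Module.End (ZMod p) (Additive V)) x - x) -
        ((ρ a : Module.End (ZMod p) (Additive V)) x - x)) : V) : Y) = 1
    rw [toMul_sub, div_eq_mul_inv, Subgroup.coe_mul, Subgroup.coe_inv, hval, hy,
      ← (hq.commute (Additive.toMul x).2).eq, mul_inv_cancel_right, mul_inv_cancel]
  · intro D hD haD hDp
    apply hna
    set π := QuotientGroup.mk' (Subgroup.centralizer (V : Set Y))
    have hm : IsPGroup p (D.map π) := by
      rintro ⟨_, y, hy, rfl⟩
      obtain ⟨k, hk⟩ := hDp ⟨_, y, hy, rfl⟩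
      refine ⟨k, Subtype.ext ?_⟩
      show π y ^ p ^ k = 1
      rw [← map_pow]
      refine (QuotientGroup.eq_one_iff _).mpr (hker _ ?_)
      rw [map_pow]
      exact congrArg Subtype.val hk
    haveI := hD.map π (QuotientGroup.mk'_surjective _)
    exact H1.le_pCore hm ⟨a, haD, rfl⟩

end H51
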