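import Cfsg.Agent.H51.EqZJ.Diag
import Cfsg.Agent.H51.EqZJ.Rep
import Cfsg.Agent.H56.QPStep
import Cfsg.Agent.H6.SL2Section
import Cfsg.Agent.S0022
import Cfsg.Agent.S0205

/-!
A coprime group of operators whose fixed points do not involve `PSL₂(p)` forces `p`-stability.
-/

set_option autoImplicit false
set_option linter.unusedSectionVars false

namespace H51

open Cfsg LinearMap H56Q

variable {p : ℕ} [hp : Fact p.Prime]

theorem solvable_or_of_coprime {G : Type*} [Group G] [Finite G] (A K : Subgroup G)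
    (h : (Nat.card A).Coprime (Nat.card K)) : Group.IsSolvable A ∨ Group.IsSolvable K := by
  rcases Nat.even_or_odd (Nat.card A) with he | ho
  · refine Or.inr (Cfsg.Agent.S0205.result ?_)
    rcases Nat.even_or_odd (Nat.card K) with he' | ho'
    · exact absurd (Nat.eq_one_of_dvd_coprimes h he.two_dvd he'.two_dvd) (by norm_num)
    · exact ho'
  · exact Or.inl (Cfsg.Agent.S0205.result ho)

/-- fixed points of a coprime action map onto the fixed points of the image -/
theorem exists_fixed_preimage {X Y : Type*} [Group X] [Finite X] [Group Y] (f : X →* Y)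
    (K H : Subgroup X) [K.Normal] (hco : (Nat.card H).Coprime (Nat.card K)) {y : Y}
    (hy : y ∈ K.map f) (hyc : y ∈ Subgroup.centralizer ((H.map f : Subgroup Y) : Set Y)) :
    ∃ c ∈ K ⊓ Subgroup.centralizer (H : Set X), f c = y := by
  obtain ⟨k, hk, rfl⟩ := hy
  have hn : ∀ W : Subgroup X, W ≤ Subgroup.normalizer ((K ⊓ f.ker : Subgroup X) : Set X) := by
    intro W
    rw [Subgroup.normalizer_eq_top_iff.mpr inferInstance]
    exact le_top
  obtain ⟨c, hc, hck⟩ := Cfsg.Agent.S0022.result H K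
    (by rw [Subgroup.normalizer_eq_top_iff.mpr inferInstance]; exact le_top) hco
    (solvable_or_of_coprime H K hco) (K ⊓ f.ker) inf_le_left (hn K) (hn H) k hk (fun a ha => by
      refine Subgroup.mem_inf.mpr ⟨mul_mem (‹K.Normal›.conj_mem k hk a) (inv_mem hk), ?_⟩
      rw [MonoidHom.mem_ker, map_mul, map_mul, map_mul,
        Subgroup.mem_centralizer_iff.mp hyc _ ⟨a, ha, rfl⟩, map_inv, map_inv]
      group)
  refine ⟨c, hc, ?_⟩
  have := MonoidHom.mem_ker.mp (Subgroup.mem_inf.mp hck).2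
  rw [map_mul, map_inv, inv_mul_eq_one] at this
  exact this.symm

theorem involves_map {X Y : Type*} [Group X] [Finite X] [Group Y] {S : Type*} [Group S] (f : X →* Y)
    (K H : Subgroup X) [K.Normal] (hco : (Nat.card H).Coprime (Nat.card K))
    (h : Cfsg.Involves S ↥(K.map f ⊓ Subgroup.centralizer ((H.map f : Subgroup Y) : Set Y))) :
    Cfsg.Involves S ↥(K ⊓ Subgroup.centralizer (H : Set X)) := by
  set T := K.map f ⊓ Subgroup.centralizer ((H.map f : Subgroup Y) : Set Y)
  have hmem : ∀ c : ↥(K ⊓ Subgroup.centralizer (H : Set X)), f c ∈ T := by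
    rintro ⟨c, hc⟩
    obtain ⟨hcK, hcH⟩ := Subgroup.mem_inf.mp hc
    refine Subgroup.mem_inf.mpr ⟨⟨c, hcK, rfl⟩, ?_⟩
    rw [Subgroup.mem_centralizer_iff]
    rintro _ ⟨a, ha, rfl⟩
    rw [← map_mul, ← map_mul, Subgroup.mem_centralizer_iff.mp hcH a ha]
  refine H6.Involves.of_surjective (H := (⊤ : Subgroup ↥(K ⊓ Subgroup.centralizer (H : Set X))))
    (((f.comp (Subgroup.subtype _)).codRestrict T hmem).comp (Subgroup.subtype ⊤)) ?_ h
  rintro ⟨y, hy⟩
  obtain ⟨c, hc, e⟩ := exists_fixed_preimage f K H hco hy.1 hy.2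
  exact ⟨⟨⟨c, hc⟩, Subgroup.mem_top _⟩, Subtype.ext e⟩

theorem involves_self (S : Type*) [Group S] : Cfsg.Involves S S := by
  haveI : ((⊥ : Subgroup S).subgroupOf ⊤).Normal := inferInstance
  exact ⟨⊤, ⊥, this, ⟨((QuotientGroup.quotientMulEquivOfEq (Subgroup.bot_subgroupOf _)).trans
    (QuotientGroup.quotientBot.trans Subgroup.topEquiv))⟩⟩

theorem involves_psl_of_hom {Γ : Type*} [Group Γ] (hp5 : 5 ≤ p) (T : Subgroup Γ)
    (Ψ : Matrix.SpecialLinearGroup (Fin 2) (ZMod p) →* Γ) (hT : ∀ g, Ψ g ∈ T)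
    (hne : ∃ g, Ψ g ≠ 1) :
    Cfsg.Involves (Matrix.ProjectiveSpecialLinearGroup (Fin 2) (ZMod p)) T := by
  set Ψ' := Ψ.codRestrict T hT
  have hker : Ψ'.ker ≤ Subgroup.center _ := by
    rcases normal_eq_top_or_center (K := ZMod p) (by rw [Nat.card_zmod]; omega) Ψ'.ker with h | h
    · obtain ⟨g, hg⟩ := hne
      have h0 : Ψ' g = 1 := MonoidHom.mem_ker.mp (h ▸ Subgroup.mem_top g : g ∈ Ψ'.ker)
      exact absurd (congrArg (Subtype.val : T → Γ) h0) hg
    · exact h
  let π : Ψ'.range →* Matrix.ProjectiveSpecialLinearGroup (Fin 2) (ZMod p) :=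
    (QuotientGroup.map Ψ'.ker (Subgroup.center _) (MonoidHom.id _) (fun g hg => hker hg)).comp
      (QuotientGroup.quotientKerEquivRange Ψ').symm.toMonoidHom
  refine H6.Involves.of_surjective π ?_ (involves_self _)
  intro q
  obtain ⟨g, rfl⟩ := QuotientGroup.mk_surjective q
  refine ⟨QuotientGroup.quotientKerEquivRange Ψ' (QuotientGroup.mk g), ?_⟩
  simp only [π, MonoidHom.comp_apply, MulEquiv.coe_toMonoidHom, MulEquiv.symm_apply_apply]
  rfl

/-- the linear core of the argument -/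
theorem no_quadratic {Y : Type*} [Group Y] [Finite Y] (hp5 : 5 ≤ p) (K H : Subgroup Y) [hKn : K.Normal]
    (hsup : K ⊔ H = ⊤) (hco : (Nat.card H).Coprime (Nat.card K)) (hpH : ¬ p ∣ Nat.card H)
    (hfree : ¬ Cfsg.Involves (Matrix.ProjectiveSpecialLinearGroup (Fin 2) (ZMod p))
      ↥(K ⊓ Subgroup.centralizer (H : Set Y)))
    {M : Type*} [AddCommGroup M] [Module (ZMod p) M] [FiniteDimensional (ZMod p) M]
    (σ : Y →* GLM (ZMod p) M) (a : Y)
    (hq : ((σ a : Module.End (ZMod p) M) - 1) * ((σ a : Module.End (ZMod p) M) - 1) = 0)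
    (hne : σ a ≠ 1) (hmin : ∀ D : Subgroup Y, D.Normal → IsPGroup p (D.map σ) → D.map σ = ⊥) :
    False := by
  haveI := finite_gl (p := p) (M := M)
  set G := K.map σ with hG
  set As := H.map σ with hAs
  set x := (σ a : Module.End (ZMod p) M) - 1 with hx
  haveI : Nontrivial (Module.End (ZMod p) M) :=
    ⟨(σ a : Module.End (ZMod p) M), 1, fun h => hne (Units.ext h)⟩
  have hn : As ≤ Subgroup.normalizer (G : Set (GLM (ZMod p) M)) :=
    (Subgroup.map_mono (le_top.trans (Subgroup.normalizer_eq_top_iff.mpr hKn).ge)).trans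
      (Subgroup.le_normalizer_map σ)
  have hcoI : (Nat.card As).Coprime (Nat.card G) :=
    (hco.coprime_dvd_left (Subgroup.card_map_dvd _ σ)).coprime_dvd_right (Subgroup.card_map_dvd _ σ)
  have hpow : ∀ n : ℕ, ((σ a ^ n : GLM (ZMod p) M) : Module.End (ZMod p) M) = 1 + (n : ℕ) • x := by
    intro n
    induction n with
    | zero => simp
    | succ n ih =>
      rw [pow_succ, Units.val_mul, ih, show (σ a : Module.End (ZMod p) M) = 1 + x by rw [hx]; abel,
        add_mul, one_mul, mul_add, mul_one, smul_mul_assoc, hq, smul_zero, succ_nsmul]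
      abel
  -- the quadratic element lies in the image of `K`
  have haG : σ a ∈ G := by
    have hord : σ a ^ p = 1 := Units.ext (by
      rw [hpow, ← Nat.cast_smul_eq_nsmul (ZMod p), ZMod.natCast_self, zero_smul, add_zero]; rfl)
    obtain ⟨k, hk, h, hh, rfl⟩ : ∃ k ∈ K, ∃ h ∈ H, a = k * h := by
      have := hsup ▸ Subgroup.mem_top a
      obtain ⟨k, hk, h, hh, e⟩ := Subgroup.mem_sup_of_normal_left.mp this
      exact ⟨k, hk, h, hh, e.symm⟩
    have hkey : ∀ n : ℕ, ∃ k' ∈ K, (k * h) ^ n = k' * h ^ n := by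
      intro n
      induction n with
      | zero => exact ⟨1, one_mem _, by simp⟩
      | succ n ih =>
        obtain ⟨k', hk', e⟩ := ih
        refine ⟨k' * (h ^ n * k * (h ^ n)⁻¹), mul_mem hk' (hKn.conj_mem k hk _), ?_⟩
        rw [pow_succ, e, pow_succ]
        group
    obtain ⟨k', hk', e⟩ := hkey p
    have hσh : σ h ^ p = (σ k')⁻¹ := by
      have e' := congrArg σ e
      rw [map_pow, hord, map_mul, map_pow] at e'
      exact eq_inv_of_mul_eq_one_right e'.symm
    have hb : (σ h) ^ p = 1 := by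
      have h1 : σ h ^ p ∈ As := pow_mem (Subgroup.mem_map_of_mem σ hh) p
      have h2 : σ h ^ p ∈ G := hσh ▸ inv_mem (Subgroup.mem_map_of_mem σ hk')
      exact Subgroup.mem_bot.mp ((Subgroup.inf_eq_bot_of_coprime hcoI) ▸ Subgroup.mem_inf.mpr ⟨h1, h2⟩)
    have h1 : σ h = 1 := by
      rw [← orderOf_eq_one_iff]
      refine (Nat.dvd_prime hp.out).mp (orderOf_dvd_of_pow_eq_one hb) |>.resolve_right fun e' => hpH ?_
      rw [← e']
      exact (orderOf_map_dvd σ h).trans (Subgroup.orderOf_dvd_natCard H hh)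
    rw [map_mul, h1, mul_one]
    exact ⟨k, hk, rfl⟩
  have hfam : Fam G x := ⟨hq, fun c => ⟨σ a ^ c.val, pow_mem haG _, by
    rw [hpow, ← Nat.cast_smul_eq_nsmul (ZMod p), ZMod.natCast_zmod_val]⟩⟩
  have hx0 : x ≠ 0 := fun h => hne (Units.ext (sub_eq_zero.mp h))
  -- no normal `p`-subgroup
  have hop : NoNormalP p G := by
    intro N hN hNn hNp
    have hNG : (N.subgroupOf G).Normal := ⟨fun n hn g => hNn g g.2 n hn⟩
    have hNp' : IsPGroup p (N.subgroupOf G) := IsPGroup.comap_subtype hNp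
    have h1 : N.subgroupOf G ≤ pCore p G := H1.le_pCore hNp'
    set P := (pCore p G).map G.subtype with hP
    set D := P.comap σ with hD
    haveI := H1.pCore_characteristic p G
    have hDn : D.Normal := by
      refine ⟨fun d hd y => ?_⟩
      rw [hD, Subgroup.mem_comap, map_mul, map_mul, map_inv]
      obtain ⟨⟨z, hzG⟩, hz, e⟩ := hd
      have hσy : σ y ∈ Subgroup.normalizer (G : Set (GLM (ZMod p) M)) :=
        Subgroup.le_normalizer_map σ ⟨y, by
          rw [Subgroup.normalizer_eq_top_iff.mpr hKn]; exact Subgroup.mem_top y, rfl⟩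
      set α := G.normalizerMonoidHom ⟨σ y, hσy⟩
      refine ⟨α ⟨z, hzG⟩, ?_, ?_⟩
      · have := Subgroup.characteristic_iff_map_eq.mp (H1.pCore_characteristic p G) α
        exact this ▸ Subgroup.mem_map_of_mem _ hz
      · rw [← e]; rfl
    have hDp : IsPGroup p (D.map σ) :=
      IsPGroup.to_le ((H1.isPGroup_pCore p G).map _) (Subgroup.map_comap_le _ _)
    have hPbot := hmin D hDn hDp
    rw [eq_bot_iff]
    intro n hn
    obtain ⟨y, hy, e⟩ := hN hn
    have hyD : y ∈ D := by
      rw [hD, Subgroup.mem_comap, e]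
      exact ⟨⟨n, hN hn⟩, h1 hn, rfl⟩
    rw [← hPbot]
    exact ⟨y, hyD, e⟩
  -- parity
  obtain ⟨b, hb⟩ := exists_minQ hfam hx0
  obtain ⟨d, hd, e1, e2⟩ := exists_opp hp5 hop hb
  have P : OppPair G b d := ⟨hb, hd, e1, e2⟩
  have hodd : Odd (Nat.card As) := by
    have hμ : (-1 : (ZMod p)ˣ) ≠ 1 := by
      intro h
      have := congrArg (fun u : (ZMod p)ˣ => (u : ZMod p)) h
      simp only [Units.val_neg, Units.val_one] at this
      exact two_ne (p := p) hp5 (by linear_combination -this)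
    have hord : orderOf (P.torus (-1)) = 2 := by
      rw [orderOf_injective P.torus P.torus_injective]
      exact orderOf_eq_prime (by rw [pow_two]; simp) hμ
    have heven : 2 ∣ Nat.card G := hord ▸ Subgroup.orderOf_dvd_natCard G (P.torus_mem _)
    rw [← Nat.not_even_iff_odd]
    exact fun he => absurd (Nat.eq_one_of_dvd_coprimes hcoI he.two_dvd heven) (by norm_num)
  obtain ⟨Ψ, hΨ, hΨ1⟩ := exists_centralized_sl2 hp5 G As hn hcoI hodd
    (Cfsg.Agent.S0205.result hodd) hop hfam hx0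
  exact hfree (involves_map σ K H hco (involves_psl_of_hom hp5 _ Ψ hΨ hΨ1))

theorem isPStableOn_of_fixed {Y : Type*} [Group Y] [Finite Y] (hp5 : 5 ≤ p) (K H : Subgroup Y)
    [K.Normal] (hsup : K ⊔ H = ⊤) (hco : (Nat.card H).Coprime (Nat.card K))
    (hpH : ¬ p ∣ Nat.card H)
    (hfree : ¬ Cfsg.Involves (Matrix.ProjectiveSpecialLinearGroup (Fin 2) (ZMod p))
      ↥(K ⊓ Subgroup.centralizer (H : Set Y)))
    (V : Subgroup Y) [V.Normal] (hV : IsElementaryAbelian p V) : IsPStableOn p V := by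
  intro a ha
  by_contra hna
  exact exists_quad_rep hV ha hna False fun M _ _ _ σ hq hne hmin =>
    no_quadratic hp5 K H hsup hco hpH hfree σ a hq hne hmin

end H51
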