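import Mathlib

/-!
A subgroup of a finite ring closed under `x y x`, with every nonzero element invertible:
two elements with equal squares differ by a sign.
-/

set_option autoImplicit false

namespace H51

theorem sq_eq_sq_of_triple_closed {R : Type*} [Ring R] [Finite R] (K : AddSubgroup R)
    (h1 : (1 : R) ∈ K) (hu : ∀ x ∈ K, x ≠ 0 → IsUnit x)
    (htri : ∀ x ∈ K, ∀ y ∈ K, x * y * x ∈ K) {p : ℕ} (hodd : Odd p) (hchar : (p : R) = 0)
    {x y : R} (hx : x ∈ K) (hy : y ∈ K) (h : x * x = y * y) : y = x ∨ y = -x := by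
  classical
  have h2 : ∀ z : R, z + z = 0 → z = 0 := by
    intro z hz
    obtain ⟨m, rfl⟩ := hodd
    have e : ((2 * m + 1 : ℕ) : R) * z = (m : R) * (z + z) + z := by
      push_cast
      rw [two_mul, mul_add, add_mul, add_mul, one_mul]
    rw [hchar, zero_mul, hz, mul_zero, zero_add] at e
    exact e.symm
  have hhalf : ∀ z : R, z + z ∈ K → z ∈ K := by
    intro z hz
    obtain ⟨m, rfl⟩ := hodd
    have e : ((m + 1 : ℕ) : R) * (z + z) = ((2 * m + 1 : ℕ) : R) * z + z := by
      push_cast
      rw [two_mul, mul_add, add_mul, add_mul, add_mul, one_mul]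
      abel
    rw [hchar, zero_mul, zero_add, ← nsmul_eq_mul] at e
    exact e ▸ K.nsmul_mem hz _
  have hsq : ∀ z ∈ K, z * z ∈ K := fun z hz => by simpa using htri z hz 1 h1
  have hjor : ∀ a ∈ K, ∀ b ∈ K, a * b + b * a ∈ K := by
    intro a ha b hb
    have e : a * b + b * a = (a + b) * (a + b) - a * a - b * b := by
      simp only [add_mul, mul_add]; abel
    rw [e]
    exact K.sub_mem (K.sub_mem (hsq _ (K.add_mem ha hb)) (hsq _ ha)) (hsq _ hb)
  have hcm : ∀ a ∈ K, ∀ b ∈ K, a * b = b * a → a * b ∈ K := fun a ha b hb e =>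
    hhalf _ (by have := hjor a ha b hb; rwa [← e] at this)
  by_contra hne
  rw [not_or] at hne
  obtain ⟨u, hudef⟩ : ∃ u, u = x - y := ⟨_, rfl⟩
  obtain ⟨v, hvdef⟩ : ∃ v, v = x + y := ⟨_, rfl⟩
  have hu0 : u ≠ 0 := fun e => hne.1 (sub_eq_zero.mp (hudef.symm.trans e)).symm
  have hv0 : v ≠ 0 := fun e => hne.2 (by rw [hvdef, add_comm] at e; exact eq_neg_of_add_eq_zero_left e)
  have huK : u ∈ K := hudef ▸ K.sub_mem hx hy
  have hvK : v ∈ K := hvdef ▸ K.add_mem hx hy
  have huu := hu u huK hu0
  have hvu' := hu v hvK hv0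
  have hanti : u * v + v * u = 0 := by
    simp only [hudef, hvdef, sub_mul, mul_add, add_mul, mul_sub, h]
    abel
  have hvu : v * u = -(u * v) := eq_neg_of_add_eq_zero_right hanti
  set s := u * u with hsdef
  set t := v * v with htdef
  have hsu : Commute s u := by show u * u * u = u * (u * u); rw [mul_assoc]
  have htv : Commute t v := by show v * v * v = v * (v * v); rw [mul_assoc]
  have hsv : Commute s v := by
    show u * u * v = v * (u * u)
    rw [← mul_assoc v, hvu, neg_mul, mul_assoc u v u, hvu, mul_neg, neg_neg, mul_assoc]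
  have htu : Commute t u := by
    show v * v * u = u * (v * v)
    rw [mul_assoc v v u, hvu, mul_neg, ← mul_assoc v u v, hvu, neg_mul, neg_neg, mul_assoc]
  set F := Subring.closure ({s, t} : Set R) with hF
  have hcent : ∀ w : R, Commute s w → Commute t w → ∀ f ∈ F, Commute f w := by
    intro w hsw htw f hf
    have : F ≤ Subring.centralizer {w} := by
      rw [hF, Subring.closure_le]
      rintro _ (rfl | rfl) <;> rw [SetLike.mem_coe, Subring.mem_centralizer_iff] <;>
        rintro _ rfl
      · exact hsw.eq.symm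
      · exact htw.eq.symm
    exact (Subring.mem_centralizer_iff.mp (this hf) w rfl).symm
  have hFu : ∀ f ∈ F, Commute f u := hcent u hsu htu
  have hFv : ∀ f ∈ F, Commute f v := hcent v hsv htv
  have hFF : ∀ f ∈ F, ∀ g ∈ F, Commute f g := fun f hf g hg =>
    hcent g ((hcent s (Commute.refl s) ((htu.mul_right htu)) g hg).symm)
      ((hcent t (hsv.mul_right hsv) (Commute.refl t) g hg).symm) f hf
  have hFK : ∀ f ∈ F, f ∈ K := by
    intro f hf
    induction hf using Subring.closure_induction with
    | mem z hz =>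
      rcases hz with rfl | rfl
      · exact hsq u huK
      · exact hsq v hvK
    | zero => exact K.zero_mem
    | one => exact h1
    | add a b _ _ ha hb => exact K.add_mem ha hb
    | neg a _ ha => exact K.neg_mem ha
    | mul a b ha' hb' ha hb => exact hcm a ha b hb (hFF a ha' b hb').eq
  -- counting squares
  set S : Finset R := (F : Set R).toFinite.toFinset with hS
  have hmem : ∀ z, z ∈ S ↔ z ∈ F := fun z => by simp [hS]
  set I := S.image fun z => z * z with hI
  have hpm : ∀ a ∈ F, ∀ b ∈ F, a * a = b * b → a = b ∨ a = -b := by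
    intro a ha b hb e
    by_cases hd : a - b = 0
    · exact Or.inl (sub_eq_zero.mp hd)
    · refine Or.inr (eq_neg_of_add_eq_zero_left ((hu _ (hFK _ (F.sub_mem ha hb)) hd).mul_right_eq_zero.mp ?_))
      rw [sub_mul, mul_add, mul_add, e, (hFF a ha b hb).eq]
      abel
  have hcount : S.card + 1 ≤ 2 * I.card := by
    have h0 : (0 : R) ∈ S := (hmem 0).mpr F.zero_mem
    have h0I : (0 : R) ∈ I := Finset.mem_image.mpr ⟨0, h0, mul_zero 0⟩
    have := Finset.card_le_mul_card_image (S.erase 0) (f := fun z => z * z) 2 (fun q hq => by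
      obtain ⟨a, ha, rfl⟩ := Finset.mem_image.mp hq
      refine (Finset.card_le_card (t := {a, -a}) ?_).trans Finset.card_le_two
      intro b hb
      rw [Finset.mem_filter, Finset.mem_erase, hmem] at hb
      rw [Finset.mem_erase, hmem] at ha
      rcases hpm b hb.1.2 a ha.2 hb.2 with e | e <;> simp [e])
    have hsub : (S.erase 0).image (fun z => z * z) ⊆ I.erase 0 := by
      intro q hq
      obtain ⟨a, ha, rfl⟩ := Finset.mem_image.mp hq
      rw [Finset.mem_erase] at ha ⊢
      exact ⟨fun e => ha.1 ((hu a (hFK a ((hmem a).mp ha.2)) ha.1).mul_right_eq_zero.mp e),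
        Finset.mem_image.mpr ⟨a, ha.2, rfl⟩⟩
    have h4 := Finset.card_le_card hsub
    rw [Finset.card_erase_of_mem h0I] at h4
    rw [Finset.card_erase_of_mem h0] at this
    have hpos := Finset.card_pos.mpr ⟨_, h0⟩
    have hpos' := Finset.card_pos.mpr ⟨_, h0I⟩
    omega
  have htunit : IsUnit t := hvu'.mul hvu'
  have hsF : s ∈ F := Subring.subset_closure (by simp)
  have htF : t ∈ F := Subring.subset_closure (by simp)
  set J := I.image fun q => s + q * t with hJ
  have hJc : J.card = I.card := Finset.card_image_of_injective _ fun a b e =>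
    htunit.mul_left_injective (add_left_cancel e)
  have hIS : I ⊆ S := by
    intro q hq
    obtain ⟨a, ha, rfl⟩ := Finset.mem_image.mp hq
    exact (hmem _).mpr (F.mul_mem ((hmem a).mp ha) ((hmem a).mp ha))
  have hJS : J ⊆ S := by
    intro q hq
    obtain ⟨a, ha, rfl⟩ := Finset.mem_image.mp hq
    exact (hmem _).mpr (F.add_mem hsF (F.mul_mem ((hmem a).mp (hIS ha)) htF))
  obtain ⟨q, hq⟩ : (I ∩ J).Nonempty := by
    rw [← Finset.card_pos]
    have e := Finset.card_union_add_card_inter I J
    have := Finset.card_le_card (Finset.union_subset hIS hJS)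
    omega
  obtain ⟨hqI, hqJ⟩ := Finset.mem_inter.mp hq
  obtain ⟨γ, hγ, rfl⟩ := Finset.mem_image.mp hqI
  obtain ⟨r, hr, e⟩ := Finset.mem_image.mp hqJ
  obtain ⟨l, hl, rfl⟩ := Finset.mem_image.mp hr
  rw [hmem] at hγ hl
  -- the combination `u + l v`
  have hlv : l * v ∈ K := hcm l (hFK l hl) v hvK (hFv l hl).eq
  obtain ⟨w, hw⟩ : ∃ w, w = u + l * v := ⟨_, rfl⟩
  have hww : w * w = γ * γ := by
    rw [← e, hw]
    have e1 : u * (l * v) + l * v * u = l * (u * v + v * u) := by
      rw [mul_add, ← mul_assoc u, (hFu l hl).eq.symm, mul_assoc, mul_assoc]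
    have e2 : l * v * (l * v) = l * l * t := by
      rw [htdef, mul_assoc l v, ← mul_assoc v l, (hFv l hl).eq.symm, ← mul_assoc, ← mul_assoc, mul_assoc]
    calc (u + l * v) * (u + l * v) = s + (u * (l * v) + l * v * u) + l * v * (l * v) := by
          simp only [add_mul, mul_add, hsdef]; abel
      _ = s + l * l * t := by rw [e1, e2, hanti, mul_zero, add_zero]
  have hγw : Commute γ w := hw ▸ (hFu γ hγ).add_right ((hFF γ hγ l hl).mul_right (hFv γ hγ))
  have hwu : Commute w u := by
    by_cases hd : w - γ = 0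
    · rw [sub_eq_zero.mp hd]; exact hFu γ hγ
    · have hwK : w ∈ K := hw ▸ K.add_mem huK hlv
      have : w + γ = 0 := (hu _ (K.sub_mem hwK (hFK γ hγ)) hd).mul_right_eq_zero.mp (by
        rw [sub_mul, mul_add, mul_add, hww, hγw.eq]; abel)
      rw [eq_neg_of_add_eq_zero_left this]
      exact (hFu γ hγ).neg_left
  have hl0 : l = 0 := by
    have e1 : l * (u * v + u * v) = 0 := by
      have := hwu.eq
      rw [hw, add_mul, mul_add] at this
      have e3 : l * v * u = u * (l * v) := add_left_cancel this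
      rw [← mul_assoc u, (hFu l hl).eq.symm, mul_assoc, mul_assoc, hvu, mul_neg, neg_eq_iff_add_eq_zero,
        ← mul_add] at e3
      exact e3
    rw [mul_add] at e1
    exact ((huu.mul hvu').mul_left_eq_zero).mp (h2 _ e1)
  have huv : Commute u v := by
    have hwv : Commute w v := by
      by_cases hd : w - γ = 0
      · rw [sub_eq_zero.mp hd]; exact hFv γ hγ
      · have hwK : w ∈ K := hw ▸ K.add_mem huK hlv
        have : w + γ = 0 := (hu _ (K.sub_mem hwK (hFK γ hγ)) hd).mul_right_eq_zero.mp (by
          rw [sub_mul, mul_add, mul_add, hww, hγw.eq]; abel)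
        rw [eq_neg_of_add_eq_zero_left this]
        exact (hFv γ hγ).neg_left
    simpa [hw, hl0] using hwv
  have : u * v = 0 := h2 _ (by rw [← hanti, huv.eq])
  exact hv0 (huu.mul_right_eq_zero.mp this)

end H51
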