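import Cfsg.Agent.H51.EqZJ.Elem
import Cfsg.Agent.H11.PStable

/-!
`p`-stability of the semidirect product, and the factorisation.
-/

set_option autoImplicit false
set_option linter.unusedSectionVars false

namespace H51

open Cfsg Subgroup
open scoped commutatorElement

variable {p : ℕ} [hp : Fact p.Prime]

/-- `p`-stability on normal `p`-subgroups from the elementary abelian sections -/
theorem isPStableOn_of_sections {Y : Type*} [Group Y] [Finite Y] (P : Subgroup Y) [P.Normal]
    (hP : IsPGroup p P)
    (helem : ∀ (Φ : Subgroup Y) [Φ.Normal], Φ ≤ P → ∀ (V : Subgroup (Y ⧸ Φ)) [V.Normal],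
      IsElementaryAbelian p V → IsPStableOn p V) : IsPStableOn p P := by
  intro a ha
  set Φ := (frattini P).map P.subtype with hΦ
  haveI : Φ.Normal := H10.map_subtype_normal inferInstance _
  set φ := QuotientGroup.mk' Φ with hφ
  have hφs : Function.Surjective φ := QuotientGroup.mk'_surjective Φ
  haveI : (P.map φ).Normal := Subgroup.Normal.map inferInstance φ hφs
  have hV : Cfsg.IsElementaryAbelian p (P.map φ) := by
    refine ⟨⟨⟨?_⟩⟩, ?_⟩
    · rintro ⟨_, x, hx, rfl⟩ ⟨_, y, hy, rfl⟩
      refine Subtype.ext (commutatorElement_eq_one_iff_mul_comm.mp ?_)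
      show ⁅φ x, φ y⁆ = 1
      rw [← map_commutatorElement]
      exact (QuotientGroup.eq_one_iff _).mpr ⟨⁅⟨x, hx⟩, ⟨y, hy⟩⁆, H6.commutator_le_frattini hP
        (commutator_mem_commutator (mem_top _) (mem_top _)), rfl⟩
    · rintro _ ⟨x, hx, rfl⟩
      rw [← map_pow]
      exact (QuotientGroup.eq_one_iff _).mpr
        ⟨⟨x, hx⟩ ^ p, H6.pow_prime_mem_frattini hP ⟨x, hx⟩, rfl⟩
  have hq : ⁅⁅P.map φ, zpowers (φ a)⁆, zpowers (φ a)⁆ = ⊥ := by
    rw [← MonoidHom.map_zpowers, ← map_commutator, ← map_commutator, ha, Subgroup.map_bot]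
  have hmem := helem Φ (Subgroup.map_subtype_le _) (P.map φ) hV (φ a) hq
  set C' := centralizer ((P.map φ : Subgroup (Y ⧸ Φ)) : Set (Y ⧸ Φ)) with hC'
  set C := centralizer (P : Set Y) with hC
  set D := (Cfsg.pCore p ((Y ⧸ Φ) ⧸ C')).comap ((QuotientGroup.mk' C').comp φ) with hD
  haveI := H1.pCore_normal' p ((Y ⧸ Φ) ⧸ C')
  haveI hDn : D.Normal := Subgroup.Normal.comap inferInstance _
  have hDp : IsPGroup p (D.map (QuotientGroup.mk' C)) := by
    rintro ⟨_, x, hx, rfl⟩
    obtain ⟨u, v, hxuv, ⟨k, hk⟩, hv, -, hvx⟩ := H5.exists_p_decomposition (p := p) x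
    have hvD : v ∈ D := (zpowers_le.mpr hx) hvx
    have hvC' : φ v ∈ C' := by
      refine (QuotientGroup.eq_one_iff _).mp (H11.eq_one_of_mem_pGroup_coprime
        (H1.isPGroup_pCore p _) hvD ?_)
      exact hv.coprime_dvd_left (orderOf_map_dvd ((QuotientGroup.mk' C').comp φ) v)
    have hcop : (Nat.card (zpowers v)).Coprime (Nat.card (frattini P)) := by
      obtain ⟨n, hn⟩ := IsPGroup.iff_card.mp (hP.to_subgroup (frattini P))
      rw [Nat.card_zpowers, hn]
      exact hv.pow_right n
    have hvC : zpowers v ≤ C := by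
      refine H1.le_centralizer_of_frattini ?_ hcop ?_
      · rw [normalizer_eq_top_iff.mpr inferInstance]; exact le_top
      · intro b hb y hy
        refine (QuotientGroup.eq_one_iff _).mp ?_
        show φ (b * y * b⁻¹ * y⁻¹) = 1
        have hb' : φ b ∈ C' := by
          obtain ⟨j, rfl⟩ := mem_zpowers_iff.mp hb
          rw [map_zpow]
          exact zpow_mem hvC' j
        rw [map_mul, map_mul, map_mul, map_inv, map_inv,
          ← mem_centralizer_iff.mp hb' _ (mem_map_of_mem φ hy)]
        group
    refine ⟨k, Subtype.ext ?_⟩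
    show (QuotientGroup.mk' C x) ^ p ^ k = 1
    rw [hxuv, map_mul, show QuotientGroup.mk' C v = 1 from
      (QuotientGroup.eq_one_iff v).mpr (hvC (mem_zpowers v)), mul_one, ← map_pow, hk, map_one]
  haveI := Subgroup.Normal.map hDn (QuotientGroup.mk' C) (QuotientGroup.mk'_surjective C)
  exact H1.le_pCore hDp (mem_map_of_mem (QuotientGroup.mk' C) (show a ∈ D from hmem))

theorem zj_normal_of_fixed {X : Type*} [Group X] [Finite X] (hp5 : 5 ≤ p) (K H : Subgroup X)
    [hKn : K.Normal] (hsup : K ⊔ H = ⊤) (hco : (Nat.card H).Coprime (Nat.card K))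
    (hpH : ¬ p ∣ Nat.card H) (hc : centralizer (pCore p X : Set X) ≤ pCore p X)
    (hfree : ¬ Cfsg.Involves (Matrix.ProjectiveSpecialLinearGroup (Fin 2) (ZMod p))
      ↥(K ⊓ Subgroup.centralizer (H : Set X))) (S : Sylow p X) :
    (centerThompsonAOf (S : Subgroup X)).Normal := by
  have hst : ∀ (N : Subgroup X) [N.Normal], IsPGroup p N → IsPStableOn p N := by
    intro N _ hN
    refine isPStableOn_of_sections N hN fun Φ _ hΦ V _ hV => ?_
    set f := QuotientGroup.mk' Φ with hf
    have hfs : Function.Surjective f := QuotientGroup.mk'_surjective Φ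
    haveI : (K.map f).Normal := Subgroup.Normal.map inferInstance f hfs
    refine isPStableOn_of_fixed hp5 (K.map f) (H.map f) ?_ ?_ ?_ ?_ V hV
    · rw [← Subgroup.map_sup, hsup, Subgroup.map_top_of_surjective f hfs]
    · exact (hco.coprime_dvd_left (Subgroup.card_map_dvd _ f)).coprime_dvd_right
        (Subgroup.card_map_dvd _ f)
    · exact fun h => hpH (h.trans (Subgroup.card_map_dvd _ f))
    · exact fun h => hfree (involves_map f K H hco h)
  rw [H11.centerThompsonAOf_eq]
  exact H11.zj_core (by omega) hc hst H11.replProp_comm S S le_rfl (fun _ _ _ h => h)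

theorem inl_aut' {N Q : Type*} [Group N] [Group Q] {φ : Q →* MulAut N} (g : Q) (n : N) :
    (SemidirectProduct.inl (φ g n) : N ⋊[φ] Q) =
      SemidirectProduct.inr g * SemidirectProduct.inl n * (SemidirectProduct.inr g)⁻¹ := by
  rw [SemidirectProduct.inl_aut, map_inv]

theorem zj_normal_of_coprime_auto {G : Type*} [Group G] [Finite G] (hp5 : 5 ≤ p)
    (hc : centralizer (pCore p G : Set G) ≤ pCore p G) (A : Subgroup (MulAut G))
    (hA : (Nat.card A).Coprime (Nat.card G)) (C : Subgroup G)
    (hC : ∀ g : G, g ∈ C ↔ ∀ a ∈ A, a g = g)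
    (hfree : ¬ Cfsg.Involves (Matrix.ProjectiveSpecialLinearGroup (Fin 2) (ZMod p)) C)
    (S : Sylow p G) : (centerThompsonAOf (S : Subgroup G)).Normal := by
  by_cases hpG : p ∣ Nat.card G
  swap
  · have hb : pCore p G = ⊥ := by
      obtain ⟨n, hn⟩ := IsPGroup.iff_card.mp (H1.isPGroup_pCore p G)
      rcases n with _ | n
      · exact Subgroup.eq_bot_of_card_eq _ (by simpa using hn)
      · exact absurd (((dvd_pow_self p n.succ_ne_zero).trans hn.symm.dvd).trans
          (Subgroup.card_subgroup_dvd_card _)) hpG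
    rw [hb] at hc
    have htriv : ∀ g : G, g = 1 := fun g => mem_bot.mp (hc (mem_centralizer_iff.mpr
      (fun x hx => by rw [mem_bot.mp hx, one_mul, mul_one])))
    exact ⟨fun x hx g => by rw [htriv g]; simpa using hx⟩
  set φ := A.subtype with hφ
  haveI : Finite (MulAut G) := inferInstance
  haveI : Finite (G ⋊[φ] A) := Finite.of_equiv _ SemidirectProduct.equivProd.symm
  set K := (SemidirectProduct.inl : G →* G ⋊[φ] A).range with hK
  set H := (SemidirectProduct.inr : A →* G ⋊[φ] A).range with hH
  have hKker : K = (SemidirectProduct.rightHom : G ⋊[φ] A →* A).ker :=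
    SemidirectProduct.range_inl_eq_ker_rightHom
  haveI hKn : K.Normal := hKker ▸ MonoidHom.normal_ker _
  have eK : Nat.card K = Nat.card G :=
    (Nat.card_congr (MonoidHom.ofInjective SemidirectProduct.inl_injective).toEquiv).symm
  have eH : Nat.card H = Nat.card A :=
    (Nat.card_congr (MonoidHom.ofInjective SemidirectProduct.inr_injective).toEquiv).symm
  have hpA : ¬ p ∣ Nat.card A := fun h =>
    hp.out.one_lt.ne' (Nat.eq_one_of_dvd_coprimes hA h hpG)
  have hsup : K ⊔ H = ⊤ := by
    rw [eq_top_iff]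
    intro x _
    rw [← SemidirectProduct.inl_left_mul_inr_right x]
    exact mul_mem (mem_sup_left ⟨_, rfl⟩) (mem_sup_right ⟨_, rfl⟩)
  -- the coprime power of an element
  have hmemK : ∀ x : G ⋊[φ] A, x.right = 1 → x ∈ K := fun x h => by
    rw [hKker]; exact h
  have hO : pCore p (G ⋊[φ] A) = (pCore p G).map SemidirectProduct.inl := by
    refine le_antisymm ?_ ?_
    · intro x hx
      have hxK : x ∈ K := by
        apply hmemK
        obtain ⟨k, hk⟩ := H1.isPGroup_pCore p _ ⟨x, hx⟩
        have hk' : x ^ p ^ k = 1 := congrArg Subtype.val hk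
        have h1 : orderOf x.right ∣ p ^ k :=
          orderOf_dvd_of_pow_eq_one (by
            rw [← SemidirectProduct.rightHom_eq_right, ← map_pow, hk', map_one])
        rw [← orderOf_eq_one_iff]
        exact Nat.eq_one_of_dvd_coprimes
          ((hp.out.coprime_iff_not_dvd.mpr hpA).pow_left k) h1 (orderOf_dvd_natCard _)
      obtain ⟨g, rfl⟩ := hxK
      refine ⟨g, ?_, rfl⟩
      haveI := H1.pCore_normal' p (G ⋊[φ] A)
      exact H1.le_pCore ((H1.isPGroup_pCore p (G ⋊[φ] A)).comap_of_injective
        (SemidirectProduct.inl : G →* G ⋊[φ] A) SemidirectProduct.inl_injective) hx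
    · haveI : ((pCore p G).map (SemidirectProduct.inl : G →* G ⋊[φ] A)).Normal := by
        refine ⟨?_⟩
        rintro _ ⟨n, hn, rfl⟩ y
        haveI := H1.pCore_normal' p G
        refine ⟨y.left * φ y.right n * y.left⁻¹, ?_, ?_⟩
        · refine Subgroup.Normal.conj_mem inferInstance _ ?_ _
          have := Subgroup.characteristic_iff_map_eq.mp (H1.pCore_characteristic p G) (φ y.right)
          exact this ▸ Subgroup.mem_map_of_mem _ hn
        · conv_rhs => rw [← SemidirectProduct.inl_left_mul_inr_right y]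
          rw [map_mul, map_mul, map_inv, inl_aut']
          group
      exact H1.le_pCore ((H1.isPGroup_pCore p G).map _)
  have hcX : centralizer (pCore p (G ⋊[φ] A) : Set (G ⋊[φ] A)) ≤ pCore p (G ⋊[φ] A) := by
    intro x hx
    rw [hO] at hx ⊢
    suffices hr : x.right = 1 by
      obtain ⟨g, rfl⟩ := hmemK x hr
      refine ⟨g, hc (mem_centralizer_iff.mpr fun y hy => SemidirectProduct.inl_injective (φ := φ) ?_), rfl⟩
      rw [map_mul, map_mul]
      exact mem_centralizer_iff.mp hx _ (mem_map_of_mem _ hy)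
    set n := orderOf x.right with hn
    have hnG : n.Coprime (Nat.card G) := hA.coprime_dvd_left (orderOf_dvd_natCard _)
    obtain ⟨m, hm1, hm2⟩ := Nat.chineseRemainder hnG 1 0
    set h := x ^ m with hh
    have hhr : h.right = x.right := by
      rw [hh, ← SemidirectProduct.rightHom_eq_right, map_pow, SemidirectProduct.rightHom_eq_right]
      conv_rhs => rw [← pow_one x.right]
      exact pow_eq_pow_iff_modEq.mpr hm1
    have hhn : h ^ n = 1 := by
      obtain ⟨g, hg⟩ := hmemK (x ^ n) (by
        rw [← SemidirectProduct.rightHom_eq_right, map_pow, SemidirectProduct.rightHom_eq_right, hn]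
        exact pow_orderOf_eq_one _)
      rw [hh, ← pow_mul, mul_comm, pow_mul, ← hg, ← map_pow]
      obtain ⟨c, hc'⟩ := Nat.modEq_zero_iff_dvd.mp hm2
      rw [hc', pow_mul, pow_card_eq_one', one_pow, map_one]
    have hhC : ∀ y ∈ pCore p G, Commute h (SemidirectProduct.inl y) := fun y hy =>
      (Commute.pow_left (show Commute x (SemidirectProduct.inl y) from
        (mem_centralizer_iff.mp hx _ (mem_map_of_mem _ hy)).symm) m)
    obtain ⟨γ, hγ⟩ : ∃ γ : G → G, ∀ g, γ g = h.left * φ h.right g * h.left⁻¹ := ⟨_, fun _ => rfl⟩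
    have hγeq : ∀ g : G, h * SemidirectProduct.inl g * h⁻¹ = SemidirectProduct.inl (γ g) := by
      intro g
      conv_lhs => rw [← SemidirectProduct.inl_left_mul_inr_right h]
      rw [hγ, map_mul, map_mul, map_inv, inl_aut']
      group
    have hfixP : ∀ y ∈ pCore p G, h * SemidirectProduct.inl y * h⁻¹ = SemidirectProduct.inl y :=
      fun y hy => by rw [(hhC y hy).eq, mul_inv_cancel_right]
    have hγmul : ∀ a b, γ (a * b) = γ a * γ b := fun a b => by
      apply SemidirectProduct.inl_injective (φ := φ)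
      rw [map_mul, ← hγeq, ← hγeq, ← hγeq, map_mul]
      group
    have hγP : ∀ y ∈ pCore p G, γ y = y := fun y hy =>
      SemidirectProduct.inl_injective (φ := φ) ((hγeq y).symm.trans (hfixP y hy))
    haveI := H1.pCore_normal' p G
    have hγinv : ∀ a, γ a⁻¹ = (γ a)⁻¹ := fun a => eq_inv_of_mul_eq_one_left (by
      rw [← hγmul, inv_mul_cancel]
      exact hγP 1 (one_mem _))
    have hid : ∀ g, γ g = g := by
      intro g
      set z := g⁻¹ * γ g with hz
      have hzC : z ∈ pCore p G := by
        refine hc (mem_centralizer_iff.mpr fun y hy => ?_)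
        have h1 : g * y * g⁻¹ ∈ pCore p G := Subgroup.Normal.conj_mem inferInstance y hy g
        have h2 := hγP _ h1
        rw [hγmul, hγmul, hγinv, hγP y hy] at h2
        have h3 := congrArg (fun t => g⁻¹ * t * γ g) h2
        simp only [hz] at *
        calc y * (g⁻¹ * γ g) = g⁻¹ * (g * y * g⁻¹) * γ g := by group
          _ = g⁻¹ * (γ g * y * (γ g)⁻¹) * γ g := h3.symm
          _ = g⁻¹ * γ g * y := by group
      have hiter : ∀ k : ℕ, h ^ k * SemidirectProduct.inl g * (h ^ k)⁻¹ =
          SemidirectProduct.inl (g * z ^ k) := by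
        intro k
        induction k with
        | zero => simp
        | succ k ih =>
          rw [pow_succ', mul_inv_rev, show h * h ^ k * SemidirectProduct.inl g * ((h ^ k)⁻¹ * h⁻¹) =
            h * (h ^ k * SemidirectProduct.inl g * (h ^ k)⁻¹) * h⁻¹ by group, ih, hγeq, hγmul,
            hγP _ (pow_mem hzC k), show γ g = g * z by rw [hz, mul_inv_cancel_left], mul_assoc,
            ← pow_succ']
      have := hiter n
      rw [hhn, one_mul, inv_one, mul_one] at this
      have hzn : z ^ n = 1 := mul_eq_left.mp (SemidirectProduct.inl_injective this).symm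
      have hz1 : z = 1 := by
        rw [← orderOf_eq_one_iff]
        exact Nat.eq_one_of_dvd_coprimes hnG (orderOf_dvd_of_pow_eq_one hzn) (orderOf_dvd_natCard _)
      rwa [hz, inv_mul_eq_one, eq_comm] at hz1
    have hinner : (x.right : MulAut G) = MulAut.conj h.left⁻¹ := by
      ext g
      rw [MulAut.conj_apply, inv_inv, ← hhr]
      have := hid g
      rw [hγ] at this
      calc (φ h.right) g = h.left⁻¹ * (h.left * φ h.right g * h.left⁻¹) * h.left := by group
        _ = _ := by rw [this]
    apply Subtype.val_injective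
    show (x.right : MulAut G) = 1
    rw [← orderOf_eq_one_iff]
    refine Nat.eq_one_of_dvd_coprimes hA (?_ : orderOf (x.right : MulAut G) ∣ _) ?_
    · rw [Subgroup.orderOf_coe]; exact orderOf_dvd_natCard _
    · rw [hinner]
      exact (orderOf_map_dvd MulAut.conj _).trans (orderOf_dvd_natCard _)
  have hfreeX : ¬ Cfsg.Involves (Matrix.ProjectiveSpecialLinearGroup (Fin 2) (ZMod p))
      ↥(K ⊓ centralizer (H : Set (G ⋊[φ] A))) := by
    intro hi
    apply hfree
    set T := K ⊓ centralizer (H : Set (G ⋊[φ] A))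
    have hCT : ∀ c : C, SemidirectProduct.inl (c : G) ∈ T := by
      intro c
      refine Subgroup.mem_inf.mpr ⟨⟨_, rfl⟩, mem_centralizer_iff.mpr ?_⟩
      rintro _ ⟨a, rfl⟩
      have := inl_aut' (φ := φ) a (c : G)
      rw [show φ a (c : G) = c from (hC c).mp c.2 a a.2] at this
      conv_rhs => rw [this, inv_mul_cancel_right]
    refine H6.Involves.of_surjective (H := (⊤ : Subgroup C))
      ((((SemidirectProduct.inl : G →* G ⋊[φ] A).comp C.subtype).codRestrict T hCT).comp
        (Subgroup.subtype ⊤)) ?_ hi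
    rintro ⟨y, hy⟩
    obtain ⟨⟨g, rfl⟩, hg⟩ := Subgroup.mem_inf.mp hy
    have hgC : g ∈ C := (hC g).mpr fun a ha => by
      have h1 := mem_centralizer_iff.mp hg _ (⟨⟨a, ha⟩, rfl⟩ :
        (SemidirectProduct.inr ⟨a, ha⟩ : G ⋊[φ] A) ∈ (H : Set (G ⋊[φ] A)))
      have h2 := inl_aut' (φ := φ) ⟨a, ha⟩ g
      rw [h1, mul_inv_cancel_right] at h2
      exact SemidirectProduct.inl_injective h2
    exact ⟨⟨⟨g, hgC⟩, mem_top _⟩, rfl⟩
  obtain ⟨T, hT⟩ := (S.isPGroup'.map (SemidirectProduct.inl : G →* G ⋊[φ] A)).exists_le_sylow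
  have hTS : (T : Subgroup (G ⋊[φ] A)) = (S : Subgroup G).map SemidirectProduct.inl := by
    refine le_antisymm (fun x hx => ?_) hT
    have hxK : x ∈ K := by
      apply hmemK
      obtain ⟨k, hk⟩ := T.isPGroup' ⟨x, hx⟩
      have hk' : x ^ p ^ k = 1 := congrArg Subtype.val hk
      rw [← orderOf_eq_one_iff]
      exact Nat.eq_one_of_dvd_coprimes ((hp.out.coprime_iff_not_dvd.mpr hpA).pow_left k)
        (orderOf_dvd_of_pow_eq_one (by
          rw [← SemidirectProduct.rightHom_eq_right, ← map_pow, hk', map_one]))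
        (orderOf_dvd_natCard _)
    obtain ⟨g, rfl⟩ := hxK
    have : (T : Subgroup (G ⋊[φ] A)).comap SemidirectProduct.inl = (S : Subgroup G) :=
      S.is_maximal' (T.isPGroup'.comap_of_injective _ SemidirectProduct.inl_injective)
        (Subgroup.map_le_iff_le_comap.mp hT)
    exact ⟨g, this ▸ hx, rfl⟩
  have hn := zj_normal_of_fixed hp5 K H hsup (by rw [eH, eK]; exact hA) (by rw [eH]; exact hpA)
    hcX hfreeX T
  rw [hTS, ← H11.map_centerThompsonAOf _ _ (fun x _ h => SemidirectProduct.inl_injective
    (h.trans (map_one _).symm))] at hn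
  refine ⟨fun z hz g => ?_⟩
  obtain ⟨z', hz', e⟩ := hn.conj_mem _ (mem_map_of_mem _ hz) (SemidirectProduct.inl g)
  rw [← map_inv, ← map_mul, ← map_mul] at e
  exact SemidirectProduct.inl_injective e ▸ hz'

/-- the `PSL₂` of isomorphic fields -/
noncomputable def pslCongr {A B : Type*} [Field A] [Field B] (f : A ≃+* B) :
    Matrix.ProjectiveSpecialLinearGroup (Fin 2) A →* Matrix.ProjectiveSpecialLinearGroup (Fin 2) B :=
  QuotientGroup.map _ _ (Matrix.SpecialLinearGroup.map (f : A →+* B)) fun g hg => by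
    rw [Subgroup.mem_comap, Subgroup.mem_center_iff]
    intro b
    have hs : Matrix.SpecialLinearGroup.map (f : A →+* B)
        (Matrix.SpecialLinearGroup.map (f.symm : B →+* A) b) = b := by
      ext i j; simp
    rw [← hs, ← map_mul, ← map_mul, Subgroup.mem_center_iff.mp hg]

theorem zj_factorization_coprime {G : Type*} [Group G] [Finite G] (hp5 : 5 ≤ p)
    (hG : IsPConstrained p G) (S : Sylow p G) (A : Subgroup (MulAut G))
    (hA : (Nat.card A).Coprime (Nat.card G)) (C : Subgroup G)
    (hC : ∀ g : G, g ∈ C ↔ ∀ a ∈ A, a g = g) {F : Type*} [Field F] [Fintype F]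
    (hF : Fintype.card F = p)
    (hfix : ¬ Cfsg.Involves (Matrix.ProjectiveSpecialLinearGroup (Fin 2) F) C) :
    pPrimeCore p G ⊔ normalizer (centerThompsonAOf (S : Subgroup G) : Set G) = ⊤ := by
  haveI := H1.pPrimeCore_normal' p G
  set N := pPrimeCore p G with hN
  set f := QuotientGroup.mk' N with hf
  have hfs : Function.Surjective f := QuotientGroup.mk'_surjective N
  have hker : (Nat.card f.ker).Coprime p := by
    rw [hf, QuotientGroup.ker_mk']; exact H1.card_pPrimeCore_coprime p G
  have hchar : ∀ α : MulAut G, N.map α.toMonoidHom = N :=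
    Subgroup.characteristic_iff_map_eq.mp (H1.pPrimeCore_characteristic p G)
  let ind : A →* MulAut (G ⧸ N) :=
    { toFun := fun a => QuotientGroup.congr N N (a : MulAut G) (hchar a)
      map_one' := by
        ext q; obtain ⟨g, rfl⟩ := QuotientGroup.mk_surjective q; rfl
      map_mul' := fun a b => by
        ext q; obtain ⟨g, rfl⟩ := QuotientGroup.mk_surjective q; rfl }
  have hind : ∀ (a : A) (g : G), ind a (f g) = f ((a : MulAut G) g) := fun a g => rfl
  let Cb : Subgroup (G ⧸ N) :=
    { carrier := {q | ∀ a ∈ ind.range, a q = q}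
      one_mem' := fun a _ => map_one a
      mul_mem' := fun hx hy a ha => by rw [map_mul, hx a ha, hy a ha]
      inv_mem' := fun hx a ha => by rw [map_inv, hx a ha] }
  have hfreeQ : ¬ Cfsg.Involves (Matrix.ProjectiveSpecialLinearGroup (Fin 2) (ZMod p)) Cb := by
    intro hi
    apply hfix
    have hmem : ∀ c : C, f c ∈ Cb := by
      rintro ⟨c, hc⟩ _ ⟨a, rfl⟩
      rw [hind, (hC c).mp hc a a.2]
    have hsurj : Function.Surjective
        (((f.comp C.subtype).codRestrict Cb hmem).comp (Subgroup.subtype ⊤) : (⊤ : Subgroup C) →* Cb) := by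
      rintro ⟨q, hq⟩
      obtain ⟨g, rfl⟩ := hfs q
      haveI : Finite (G ⋊[A.subtype] A) := Finite.of_equiv _ SemidirectProduct.equivProd.symm
      set K := (SemidirectProduct.inl : G →* (G ⋊[A.subtype] A)).range
      set H := (SemidirectProduct.inr : A →* (G ⋊[A.subtype] A)).range
      set M := N.map (SemidirectProduct.inl : G →* (G ⋊[A.subtype] A)) with hM
      haveI hKn : K.Normal := by
        show ((SemidirectProduct.inl : G →* (G ⋊[A.subtype] A)).range).Normal
        rw [SemidirectProduct.range_inl_eq_ker_rightHom]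
        exact MonoidHom.normal_ker _
      have hMn : ∀ y : (G ⋊[A.subtype] A), ∀ n ∈ M, y * n * y⁻¹ ∈ M := by
        rintro y _ ⟨n, hn, rfl⟩
        refine ⟨y.left * (y.right : MulAut G) n * y.left⁻¹, Subgroup.Normal.conj_mem inferInstance _
          ((hchar (y.right : MulAut G)).le (mem_map_of_mem _ hn)) _, ?_⟩
        conv_rhs => rw [← SemidirectProduct.inl_left_mul_inr_right y]
        rw [map_mul, map_mul, map_inv]
        have := inl_aut' (φ := A.subtype) y.right n
        rw [Subgroup.coe_subtype] at this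
        rw [this]
        group
      have hMt : ∀ W : Subgroup (G ⋊[A.subtype] A), W ≤ normalizer (M : Set (G ⋊[A.subtype] A)) := fun W y _ =>
        Subgroup.mem_normalizer_iff.mpr fun n => ⟨hMn y n, fun h => by
          have := hMn y⁻¹ _ h; rwa [show y⁻¹ * (y * n * y⁻¹) * y⁻¹⁻¹ = n by group] at this⟩
      obtain ⟨c, hc, hcm⟩ := Cfsg.Agent.S0022.result H K
        (by rw [Subgroup.normalizer_eq_top_iff.mpr hKn]; exact le_top)
        (by rw [← Nat.card_congr (MonoidHom.ofInjective SemidirectProduct.inr_injective).toEquiv,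
              ← Nat.card_congr (MonoidHom.ofInjective SemidirectProduct.inl_injective).toEquiv]
            exact hA)
        (solvable_or_of_coprime H K (by
          rw [← Nat.card_congr (MonoidHom.ofInjective SemidirectProduct.inr_injective).toEquiv,
              ← Nat.card_congr (MonoidHom.ofInjective SemidirectProduct.inl_injective).toEquiv]
          exact hA))
        M (by rintro _ ⟨n, -, rfl⟩; exact ⟨n, rfl⟩) (hMt K) (hMt H) (SemidirectProduct.inl g) ⟨g, rfl⟩
        (by
          rintro _ ⟨a, rfl⟩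
          refine ⟨(a : MulAut G) g * g⁻¹, ?_, ?_⟩
          · have h1 := hq _ ⟨a, rfl⟩
            rw [hind] at h1
            rw [SetLike.mem_coe, ← QuotientGroup.eq_one_iff, ← QuotientGroup.mk'_apply, map_mul,
              map_inv]
            exact mul_inv_eq_one.mpr h1
          · rw [map_mul, map_inv]
            have := inl_aut' (φ := A.subtype) a g
            rw [Subgroup.coe_subtype] at this
            rw [this])
      obtain ⟨⟨c', rfl⟩, hcH⟩ := Subgroup.mem_inf.mp hc
      have hcC : c' ∈ C := (hC c').mpr fun a ha => by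
        have h1 := mem_centralizer_iff.mp hcH _ (⟨⟨a, ha⟩, rfl⟩ :
          (SemidirectProduct.inr ⟨a, ha⟩ : (G ⋊[A.subtype] A)) ∈ (H : Set (G ⋊[A.subtype] A)))
        have h2 := inl_aut' (φ := A.subtype) ⟨a, ha⟩ c'
        rw [h1, mul_inv_cancel_right] at h2
        exact SemidirectProduct.inl_injective h2
      refine ⟨⟨⟨c', hcC⟩, mem_top _⟩, Subtype.ext ?_⟩
      obtain ⟨n, hn, e⟩ := hcm
      rw [← map_inv, ← map_mul] at e
      have e' := SemidirectProduct.inl_injective e
      show f c' = f g
      rw [← inv_mul_eq_one, ← map_inv, ← map_mul]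
      refine (QuotientGroup.eq_one_iff _).mpr ?_
      have : c'⁻¹ * g = (g⁻¹ * c')⁻¹ := by group
      rw [this, ← e']
      exact inv_mem hn
    have h2 := H6.Involves.of_surjective _ hsurj hi
    -- change the field
    let e := (ZMod.ringEquivOfPrime F hp.out hF)
    obtain ⟨K', R', hn', ⟨ι⟩⟩ := h2
    have hbij : Function.Bijective (pslCongr e) := by
      refine ⟨Function.LeftInverse.injective (g := pslCongr e.symm) ?_,
        Function.RightInverse.surjective (g := pslCongr e.symm) ?_⟩ <;>
        intro q <;> obtain ⟨g, rfl⟩ := QuotientGroup.mk_surjective q <;>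
        simp only [pslCongr, QuotientGroup.map_mk] <;>
        congr 1 <;> ext i j <;> simp
    exact ⟨K', R', hn', ⟨ι.trans (MulEquiv.ofBijective (pslCongr e) hbij)⟩⟩
  have hcore := (H11.isPConstrained_iff_core).mp hG
  set Sb := S.mapSurjective hfs with hSb
  have hSc : (Sb : Subgroup _) = (S : Subgroup G).map f := by rw [hSb]; rfl
  have hn := zj_normal_of_coprime_auto hp5 hcore ind.range
    ((hA.coprime_dvd_left (Subgroup.card_range_dvd ind)).coprime_dvd_right
      (Subgroup.card_quotient_dvd_card N))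
    Cb (fun q => Iff.rfl) hfreeQ Sb
  rw [hSc, ← H11.map_centerThompsonAOf f _
    (fun x hx h => H11.eq_one_of_map_eq_one f hker S.2 hx h)] at hn
  have hmap := H11.map_normalizer_eq f hfs hker (centerThompsonAOf (S : Subgroup G))
    (S.2.to_le (H11.centerThompsonAOf_le _))
  rw [Subgroup.normalizer_eq_top_iff.mpr hn] at hmap
  have := congrArg (Subgroup.comap f) hmap
  rwa [Subgroup.comap_top, Subgroup.comap_map_eq, hf, QuotientGroup.ker_mk', sup_comm] at this

end H51
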