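import Cfsg.Agent.H56.QPClass

/-!
Opposite root elements in a group without normal `p`-subgroups.
-/

set_option autoImplicit false
set_option linter.unusedSectionVars false

namespace H51

open Cfsg LinearMap H56Q

variable {p : ℕ} [hp : Fact p.Prime] {M : Type*} [AddCommGroup M] [Module (ZMod p) M]
  [FiniteDimensional (ZMod p) M]
variable {G : Subgroup (GLM (ZMod p) M)} {a b γ : Module.End (ZMod p) M}
  {A B : Subgroup (GLM (ZMod p) M)}

/-- every normal `p`-subgroup is trivial -/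
def NoNormalP (p : ℕ) {Γ : Type*} [Group Γ] (G : Subgroup Γ) : Prop :=
  ∀ N : Subgroup Γ, N ≤ G → (∀ g ∈ G, ∀ n ∈ N, g * n * g⁻¹ ∈ N) → IsPGroup p N → N = ⊥

theorem two_ne (hp5 : 5 ≤ p) : (2 : ZMod p) ≠ 0 := by
  intro h
  have h' : ((2 : ℕ) : ZMod p) = 0 := by exact_mod_cast h
  have := Nat.le_of_dvd (by norm_num) ((ZMod.natCast_eq_zero_iff _ _).mp h')
  omega

theorem card_ne_three (hp5 : 5 ≤ p) : Nat.card (ZMod p) ≠ 3 := by
  rw [Nat.card_zmod]; omega

theorem exists_opp (hp5 : 5 ≤ p) (hop : NoNormalP p G) (hγ : MinQ G γ) :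
    ∃ d, MinQ G d ∧ γ * d * γ = γ ∧ d * γ * d = d := by
  have h2 := two_ne (p := p) hp5
  have h3 := card_ne_three (p := p) hp5
  by_contra hcon
  push Not at hcon
  set T : Set (GLM (ZMod p) M) := {t | ∃ g ∈ G, t = g * qu γ hγ.sq * g⁻¹} with hT
  have hqu : qu γ hγ.sq ∈ G := hγ.fam.qu_mem
  have hmin : ∀ t ∈ T, MinQ G ((t : Module.End (ZMod p) M) - 1) := by
    rintro t ⟨g, hg, rfl⟩
    rw [conj_coe g (coe_qu γ hγ.sq), add_sub_cancel_left]
    exact hγ.conj hg
  have hTG : ∀ t ∈ T, t ∈ G := by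
    rintro t ⟨g, hg, rfl⟩
    exact mul_mem (mul_mem hg hqu) (inv_mem hg)
  have hconj : ∀ g ∈ G, ∀ t ∈ T, g * t * g⁻¹ ∈ T := by
    rintro g hg t ⟨h, hh, rfl⟩
    exact ⟨g * h, mul_mem hg hh, by group⟩
  have hnil : ∀ s ∈ T, ∀ t ∈ T,
      IsNilpotent (((s : Module.End (ZMod p) M) - 1) * ((t : Module.End (ZMod p) M) - 1)) := by
    rintro s hs t ⟨g, hg, rfl⟩
    rw [conj_coe g (coe_qu γ hγ.sq), add_sub_cancel_left]
    have hs' := hconj g⁻¹ (inv_mem hg) s hs
    rw [inv_inv] at hs'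
    set d := ((g⁻¹ * s * g : GLM (ZMod p) M) : Module.End (ZMod p) M) - 1 with hd
    by_contra hn
    have hn' : ¬ IsNilpotent (d * γ) := by
      rintro ⟨N, hN⟩
      refine hn ⟨N, ?_⟩
      have e : ((s : Module.End (ZMod p) M) - 1) *
          ((g : Module.End (ZMod p) M) * γ * ((g⁻¹ : GLM (ZMod p) M) : Module.End (ZMod p) M)) =
          (g : Module.End (ZMod p) M) * (d * γ) *
            ((g⁻¹ : GLM (ZMod p) M) : Module.End (ZMod p) M) := by
        rw [hd]
        simp [sub_mul, mul_sub, mul_assoc]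
      rw [e, Units.conj_pow, hN, mul_zero, zero_mul]
    obtain ⟨v, hv, e1, e2, -⟩ := exists_partner h2 h3 hγ (hmin _ hs') hn'
    have hv0 : v ≠ 0 := by rintro rfl; exact hγ.ne (by simpa using e1.symm)
    exact hcon v (hv.eq_of_ne (hmin _ hs') hv0).1 e1 e2
  have hL := H98.isNilSub_of_pairwise (k := ZMod p) (T := T)
    (fun a ha b hb => hconj a (hTG a ha) b hb)
    (fun s hs t ht => by
      obtain ⟨z1, z2⟩ := aba_bab_zero h2 (hmin t ht) (hmin s hs) (hnil s hs t ht)
      exact isNilSub_pair (hmin s hs).sq (hmin t ht).sq z2 z1)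
  set N := Subgroup.closure T
  haveI : Nontrivial (Module.End (ZMod p) M) := ⟨γ, 0, hγ.ne⟩
  haveI : CharP (Module.End (ZMod p) M) p :=
    charP_of_injective_algebraMap (algebraMap (ZMod p) (Module.End (ZMod p) M)).injective p
  have hN : N = ⊥ := by
    refine hop N ((Subgroup.closure_le G).mpr fun t ht => hTG t ht) ?_ ?_
    · intro g hg n hn
      induction hn using Subgroup.closure_induction with
      | mem t ht => exact Subgroup.subset_closure (hconj g hg t ht)
      | one => simp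
      | mul x y _ _ hx hy =>
        rw [show g * (x * y) * g⁻¹ = g * x * g⁻¹ * (g * y * g⁻¹) by group]
        exact mul_mem hx hy
      | inv x _ hx =>
        rw [show g * x⁻¹ * g⁻¹ = (g * x * g⁻¹)⁻¹ by group]
        exact inv_mem hx
    · have hle : N ≤ H98.oneAdd (H98.augNU (ZMod p) T) (H98.augNU_mul_le T) hL :=
        (Subgroup.closure_le _).mpr fun t ht => H98.mem_augNU ht
      rintro ⟨g, hg⟩
      obtain ⟨n, hn⟩ := hL
      obtain ⟨m, hm⟩ : ∃ m, n + 1 ≤ p ^ m := ⟨n + 1, (Nat.lt_pow_self hp.out.one_lt).le⟩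
      refine ⟨m, Subtype.ext (Units.ext ?_)⟩
      have h0 : ((g : Module.End (ZMod p) M) - 1) ^ (n + 1) = 0 := by
        have := Submodule.pow_mem_pow _ (show (g : Module.End (ZMod p) M) - 1 ∈ H98.augNU (ZMod p) T from hle hg) (n + 1)
        rwa [hn, Submodule.mem_bot] at this
      have h1 := pow_eq_zero_of_le hm h0
      rw [sub_pow_char_pow_of_commute _ _ (Commute.one_right _), one_pow, sub_eq_zero] at h1
      simpa using h1
  apply hγ.ne
  have : qu γ hγ.sq ∈ N := Subgroup.subset_closure ⟨1, one_mem G, by simp⟩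
  rw [hN, Subgroup.mem_bot] at this
  simpa using congrArg (fun u : GLM (ZMod p) M => (u : Module.End (ZMod p) M)) this

theorem conj_of_commutator (hp5 : 5 ≤ p) (hop : NoNormalP p G)
    (hA : IsRootOf G A a) (hB : IsRootOf G B b) (h1 : a * b * a = 0) (h1' : b * a * b = 0)
    (hne : a * b ≠ b * a) : RootConj G A B := by
  have h2 := two_ne (p := p) hp5
  have h3 := card_ne_three (p := p) hp5
  obtain ⟨d, hd, gdg, dgd⟩ := exists_opp hp5 hop (comm_struct hA.1 hB.1 h1 h1' hne).1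
  obtain ⟨a2, b2, ra, rb, P⟩ := reduce_pair h2 hA.1 hB.1 h1 h1' hne hd gdg dgd
  set γ := a * b - b * a
  set a1 := a - a2 with ha1
  set b1 := b - b2 with hb1
  obtain ⟨A1, hA1⟩ := exists_root_subgroup P.ma
  obtain ⟨B1, hB1⟩ := exists_root_subgroup P.mb
  obtain ⟨C, hC⟩ := exists_root_subgroup P.conj_minQ
  obtain ⟨ga, hga, ea⟩ := exists_mover h2 P.symm (l := a2) ⟨ra.1,
    by rw [LinearMap.range_neg]; exact ra.2.1, by rw [LinearMap.ker_neg]; exact ra.2.2⟩
  obtain ⟨gb, hgb, eb⟩ := exists_mover h2 P (l := b2) rb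
  rw [sub_add_cancel] at ea eb
  have r1 : RootConj G A1 A := rootConj_of_elements hA1 hA hga ea
  have r2 : RootConj G B1 B := rootConj_of_elements hB1 hB hgb eb
  have r3 : RootConj G B1 C := rootConj_of_elements hB1 hC
    (mul_mem (mul_mem (qu_mem_rootGroup P.mγ) (inv_mem (qu_mem_rootGroup P.md)))
      (qu_mem_rootGroup P.mγ)) P.conj_spec
  have ada : a1 * d * a1 = 0 := by simpa using P.symm.bdb h2
  have haca : a1 * (b1 * d - d * b1) * a1 = a1 := by
    conv_rhs => rw [P.pa, ← P.comm]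
    have e1 : b1 * (a1 * (d * a1)) = 0 := by rw [← mul_assoc a1 d a1, ada, mul_zero]
    have e2 : ∀ r, a1 * (d * (a1 * r)) = 0 := fun r => by
      rw [← mul_assoc, ← mul_assoc, ada, zero_mul]
    simp only [mul_sub, sub_mul, mul_assoc, e1, e2]
    abel
  have r4 : RootConj G A1 C := rootConj_of_rankOne hA1 hC (specialPair h2 h3 hA1 hC fun hn => by
    refine hA1.1.ne ?_
    rw [← haca]
    exact (aba_bab_zero h2 hA1.1 hC.1 hn).1).1
  exact r1.symm.trans (r4.trans (r3.symm.trans r2))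

/-- root subgroups that are not conjugate commute -/
theorem commute_of_not_conj (hp5 : 5 ≤ p) (hop : NoNormalP p G)
    (hA : IsRootOf G A a) (hB : IsRootOf G B b) (h : ∀ g ∈ G, B ≠ conjBy A g) :
    ∀ x ∈ A, ∀ y ∈ B, Commute x y := by
  have h2 := two_ne (p := p) hp5
  have h3 := card_ne_three (p := p) hp5
  have key : ¬ RootConj G A B := fun ⟨g, hg, e⟩ => h g (rootGroup_le hg) e
  rcases trichotomy h2 h3 hA hB with ⟨hc, -⟩ | ⟨hr, -⟩ | ⟨h1, h1', hne⟩
  · exact fun x hx y hy => H98.commute_of_commutator_eq_bot hc hx hy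
  · exact absurd (rootConj_of_rankOne hA hB hr.1) key
  · exact absurd (conj_of_commutator hp5 hop hA hB h1 h1' hne) key

end H51
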