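import Cfsg.Agent.H51.EqZJ.SL
import Cfsg.Agent.H56.QPCase
import Cfsg.Agent.S0001

/-!
A group fixing a root element fixes one of its opposites.
-/

set_option autoImplicit false
set_option linter.unusedSectionVars false

namespace H51

open Cfsg LinearMap H56Q
open scoped Pointwise

variable {p : ℕ} [hp : Fact p.Prime] {M : Type*} [AddCommGroup M] [Module (ZMod p) M]
  [FiniteDimensional (ZMod p) M]
variable {G : Subgroup (GLM (ZMod p) M)} {a v w : Module.End (ZMod p) M}

theorem coreGroup_isPGroup (hp5 : 5 ≤ p) (ha : MinQ G a) : IsPGroup p (coreGroup G a) := by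
  haveI : Nontrivial (Module.End (ZMod p) M) := ⟨a, 0, ha.ne⟩
  haveI : CharP (Module.End (ZMod p) M) p :=
    charP_of_injective_algebraMap (algebraMap (ZMod p) (Module.End (ZMod p) M)).injective p
  rintro ⟨g, hgG, g1, g2, g3⟩
  obtain ⟨e1, e2⟩ := coreGroup_sub g1 g2
  refine ⟨1, Subtype.ext (Units.ext ?_)⟩
  have h0 : ((g : Module.End (ZMod p) M) - 1) ^ 3 = 0 := by
    refine LinearMap.ext fun m => ?_
    set n := (g : Module.End (ZMod p) M) - 1
    show n (n (n m)) = 0
    obtain ⟨q, hq⟩ := g3 (n m) (LinearMap.congr_fun e1 m)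
    show n ((g : Module.End (ZMod p) M) (n m) - n m) = 0
    rw [← hq]
    exact LinearMap.congr_fun e2 q
  have h1 := pow_eq_zero_of_le (show 3 ≤ p ^ 1 by rw [pow_one]; omega) h0
  rw [sub_pow_char_pow_of_commute _ _ (Commute.one_right _), one_pow, sub_eq_zero] at h1
  simpa using h1

theorem OppPair.mul_torus (P : OppPair G a v) (μ : (ZMod p)ˣ) :
    a * (P.torus μ : Module.End (ZMod p) M) = ((μ⁻¹ : (ZMod p)ˣ) : ZMod p) • a ∧
      (P.torus μ : Module.End (ZMod p) M) * a = (μ : ZMod p) • a := by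
  constructor <;>
    simp only [P.coe_torus, mul_add, add_mul, mul_sub, sub_mul, mul_smul_comm, smul_mul_assoc, mul_one, one_mul,
      ← mul_assoc, P.ma.sq, zero_mul, smul_zero, P.ava, mul_assoc v a a, mul_zero, sub_smul,
      one_smul] <;> abel

theorem OppPair.torus_move (P : OppPair G a v) (μ : (ZMod p)ˣ) (m : M) (hm : a m = 0) :
    (P.torus μ : Module.End (ZMod p) M) m - m ∈ range a := by
  refine ⟨((μ : ZMod p) - 1) • v m, ?_⟩
  rw [P.coe_torus]
  simp only [LinearMap.add_apply, LinearMap.smul_apply, Module.End.mul_apply, Module.End.one_apply,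
    hm, map_zero, smul_zero, map_smul, add_zero, add_sub_cancel_left]

/-- the opposites of `a` are conjugate under its core group -/
theorem exists_core_conj (hp5 : 5 ≤ p) (P : OppPair G a v) (Q : OppPair G a w) :
    ∃ u ∈ coreGroup G a, cjg u v = w := by
  haveI := finite_gl (p := p) (M := M)
  have hU := coreGroup_isPGroup hp5 P.ma
  set U := coreGroup G a with hUdef
  let μ : (ZMod p)ˣ := Units.mk0 2 (two_ne hp5)
  set h := P.torus μ with hh
  set h' := Q.torus μ with hh'
  have hc : h' * h⁻¹ ∈ U := by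
    rw [hh, hh', ← map_inv]
    refine ⟨mul_mem (Q.torus_mem _) (P.torus_mem _), ?_, ?_, fun m hm => ?_⟩
    · rw [Units.val_mul, ← mul_assoc, (Q.mul_torus μ).1, smul_mul_assoc, (P.mul_torus μ⁻¹).1,
        smul_smul, inv_inv, Units.inv_mul, one_smul]
    · rw [Units.val_mul, mul_assoc, (P.mul_torus μ⁻¹).2, mul_smul_comm, (Q.mul_torus μ).2,
        smul_smul, Units.inv_mul, one_smul]
    · set m' := (P.torus μ⁻¹ : Module.End (ZMod p) M) m with hm'
      have hm0 : a m' = 0 := by
        rw [hm', ← Module.End.mul_apply, (P.mul_torus μ⁻¹).1, LinearMap.smul_apply, hm, smul_zero]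
      have := Submodule.add_mem _ (Q.torus_move μ m' hm0) (P.torus_move μ⁻¹ m hm)
      rwa [← hm', sub_add_sub_cancel] at this
  have hnorm : ∀ ν : (ZMod p)ˣ, ∀ g ∈ U, P.torus ν * g * P.torus ν⁻¹ ∈ U := by
    rintro ν g ⟨hg, g1, g2, g3⟩
    refine ⟨mul_mem (mul_mem (P.torus_mem _) hg) (P.torus_mem _), ?_, ?_, fun m hm => ?_⟩
    · rw [Units.val_mul, Units.val_mul, ← mul_assoc, ← mul_assoc, (P.mul_torus ν).1,
        smul_mul_assoc, g1, smul_mul_assoc, (P.mul_torus ν⁻¹).1, smul_smul, inv_inv, Units.inv_mul,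
        one_smul]
    · rw [Units.val_mul, Units.val_mul, mul_assoc, mul_assoc, (P.mul_torus ν⁻¹).2, mul_smul_comm,
        g2, mul_smul_comm, (P.mul_torus ν).2, smul_smul, Units.inv_mul, one_smul]
    · set m' := (P.torus ν⁻¹ : Module.End (ZMod p) M) m with hm'
      have hm0 : a m' = 0 := by
        rw [hm', ← Module.End.mul_apply, (P.mul_torus ν⁻¹).1, LinearMap.smul_apply, hm, smul_zero]
      obtain ⟨q, hq⟩ := g3 m' hm0
      have e : ((P.torus ν * g * P.torus ν⁻¹ : GLM (ZMod p) M) : Module.End (ZMod p) M) m - m =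
          (P.torus ν : Module.End (ZMod p) M) (a q) := by
        have e0 : (P.torus ν : Module.End (ZMod p) M) m' = m := by
          rw [hm', ← Module.End.mul_apply, ← Units.val_mul, ← map_mul, mul_inv_cancel, map_one]
          rfl
        rw [Units.val_mul, Units.val_mul, Module.End.mul_apply, Module.End.mul_apply, ← hm', hq,
          map_sub, e0]
      rw [e, ← Module.End.mul_apply, (P.mul_torus ν).2]
      exact Submodule.smul_mem _ _ (mem_range_self a q)
  set H := Subgroup.zpowers h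
  set H' := Subgroup.zpowers h'
  have hUn : H ≤ Subgroup.normalizer (U : Set (GLM (ZMod p) M)) := by
    rw [Subgroup.zpowers_le, Subgroup.mem_normalizer_iff]
    intro g
    refine ⟨fun hg => by rw [hh, ← map_inv]; exact hnorm μ g hg, fun hg => ?_⟩
    have := hnorm μ⁻¹ _ hg
    rw [inv_inv, hh, map_inv] at this
    simpa [mul_assoc] using this
  set W := U ⊔ H with hW
  have hhW : h ∈ W := Subgroup.mem_sup_right (Subgroup.mem_zpowers h)
  have hh'W : h' ∈ W := by
    have := mul_mem (show h' * h⁻¹ ∈ W from Subgroup.mem_sup_left hc) hhW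
    rwa [inv_mul_cancel_right] at this
  have hsup : U ⊔ H' = W := by
    refine le_antisymm (sup_le le_sup_left (Subgroup.zpowers_le.mpr hh'W))
      (sup_le le_sup_left (Subgroup.zpowers_le.mpr ?_))
    have := mul_mem (show (h' * h⁻¹)⁻¹ ∈ U ⊔ H' from Subgroup.mem_sup_left (inv_mem hc))
      (show h' ∈ U ⊔ H' from Subgroup.mem_sup_right (Subgroup.mem_zpowers h'))
    simpa using this
  have hord : ∀ {w'} (R : OppPair G a w'), (Nat.card U).Coprime (Nat.card (Subgroup.zpowers (R.torus μ))) := by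
    intro w' R
    obtain ⟨n, hn⟩ := hU.exists_card_eq
    rw [hn, Nat.card_zpowers, orderOf_injective R.torus R.torus_injective]
    refine Nat.Coprime.pow_left _ (hp.out.coprime_iff_not_dvd.mpr fun hd => ?_)
    have h2 := Nat.le_of_dvd (orderOf_pos μ) hd
    have h3 := orderOf_le_card (x := μ)
    rw [Nat.card_eq_fintype_card, ZMod.card_units] at h3
    omega
  let N : Subgroup W := U.subgroupOf W
  haveI hN : N.Normal := by
    rw [Subgroup.normal_subgroupOf_iff_le_normalizer le_sup_left]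
    exact sup_le Subgroup.le_normalizer hUn
  have eN : Nat.card N = Nat.card U :=
    Nat.card_congr (Subgroup.subgroupOfEquivOfLe le_sup_left).toEquiv
  have hcompl : ∀ {w'} (R : OppPair G a w'), U ⊔ Subgroup.zpowers (R.torus μ) = W →
      N.IsComplement' ((Subgroup.zpowers (R.torus μ)).subgroupOf W) := by
    intro w' R hR
    have hle : Subgroup.zpowers (R.torus μ) ≤ W := hR ▸ le_sup_right
    have hd : Disjoint N ((Subgroup.zpowers (R.torus μ)).subgroupOf W) := by
      rw [disjoint_iff]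
      apply Subgroup.inf_eq_bot_of_coprime
      rw [eN, Nat.card_congr (Subgroup.subgroupOfEquivOfLe hle).toEquiv]
      exact hord R
    refine Subgroup.isComplement'_of_disjoint_and_mul_eq_univ hd ?_
    rw [← Subgroup.normal_mul, ← Subgroup.subgroupOf_sup le_sup_left hle, hR,
      Subgroup.subgroupOf_self, Subgroup.coe_top]
  have c1 : N.IsComplement' (H.subgroupOf W) := hcompl P rfl
  have c2 : N.IsComplement' (H'.subgroupOf W) := hcompl Q hsup
  have hNp : IsPGroup p N := hU.of_equiv (Subgroup.subgroupOfEquivOfLe le_sup_left).symm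
  haveI : Group.IsNilpotent N := hNp.isNilpotent
  have hcopN : (Nat.card N).Coprime N.index := by
    rw [c1.symm.index_eq_card, eN, Nat.card_congr (Subgroup.subgroupOfEquivOfLe
      (le_sup_right : H ≤ W)).toEquiv]
    exact hord P
  obtain ⟨z, hz⟩ := Cfsg.Agent.S0001.result N hcopN (Or.inl inferInstance) _ _ c1 c2
  obtain ⟨u, hu, t, ht, hzut⟩ : ∃ u ∈ U, ∃ t ∈ H, (z : GLM (ZMod p) M) = u * t := by
    have h0 : (z : GLM (ZMod p) M) ∈ U ⊔ H := z.2
    rw [← SetLike.mem_coe, Subgroup.coe_mul_of_right_le_normalizer_left _ _ hUn] at h0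
    obtain ⟨u, hu, t, ht, e⟩ := Set.mem_mul.mp h0
    exact ⟨u, hu, t, ht, e.symm⟩
  refine ⟨u, hu, ?_⟩
  obtain ⟨u1, u2⟩ : a * (u : Module.End (ZMod p) M) = a ∧ (u : Module.End (ZMod p) M) * a = a :=
    ⟨hu.2.1, hu.2.2.1⟩
  have ui1 : a * ((u⁻¹ : GLM (ZMod p) M) : Module.End (ZMod p) M) = a := by
    conv_lhs => rw [← u1, Units.mul_inv_cancel_right]
  have ui2 : ((u⁻¹ : GLM (ZMod p) M) : Module.End (ZMod p) M) * a = a := by
    conv_lhs => rw [← u2, ← mul_assoc, Units.inv_mul, one_mul]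
  have hca : cjg u a = a := by rw [cjg, u2, ui1]
  obtain ⟨i, hi⟩ : u * h * u⁻¹ ∈ H' := by
    obtain ⟨k, rfl⟩ := ht
    have hmem : (⟨u * h * u⁻¹, mul_mem (mul_mem (Subgroup.mem_sup_left hu) hhW)
        (inv_mem (Subgroup.mem_sup_left hu))⟩ : W) ∈ MulAut.conj z • H.subgroupOf W := by
      refine ⟨⟨h, hhW⟩, Subgroup.mem_zpowers h, ?_⟩
      apply Subtype.ext
      show (z : GLM (ZMod p) M) * h * (z : GLM (ZMod p) M)⁻¹ = u * h * u⁻¹
      rw [hzut]
      group
    rw [hz] at hmem
    exact hmem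
  have hpow : h' = u * h * u⁻¹ := by
    simp only at hi
    rw [← hi, hh', ← map_zpow]
    congr 1
    have e1 : a * ((u * h * u⁻¹ : GLM (ZMod p) M) : Module.End (ZMod p) M) =
        ((μ⁻¹ : (ZMod p)ˣ) : ZMod p) • a := by
      rw [Units.val_mul, Units.val_mul, ← mul_assoc, ← mul_assoc, u1, hh, (P.mul_torus μ).1,
        smul_mul_assoc, ui1]
    rw [← hi, hh', ← map_zpow] at e1
    rw [(Q.mul_torus (μ ^ i)).1] at e1
    have := smul_left_injective (ZMod p) P.ma.ne e1
    exact inv_injective (Units.ext this).symm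
  -- compare the two tori
  set w₁ := cjg u v with hw₁
  have f1 : a * w₁ * a = a := by
    conv_lhs => rw [← hca, hw₁, ← cjg_mul_mul, ← cjg_mul_mul, P.ava, hca]
  have f2 : w₁ * a * w₁ = w₁ := by
    conv_lhs => rw [← hca, hw₁, ← cjg_mul_mul, ← cjg_mul_mul, P.vav]
  have hform : ∀ ν : (ZMod p)ˣ,
      ((u * P.torus ν * u⁻¹ : GLM (ZMod p) M) : Module.End (ZMod p) M) =
        1 + ((ν : ZMod p) - 1) • (a * w₁) + (((ν⁻¹ : (ZMod p)ˣ) : ZMod p) - 1) • (w₁ * a) := by
    intro ν
    conv_rhs => rw [← hca, hw₁, ← cjg_mul_mul, ← cjg_mul_mul]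
    rw [Units.val_mul, Units.val_mul, P.coe_torus]
    simp only [cjg, mul_add, add_mul, mul_one, Units.mul_inv, mul_smul_comm, smul_mul_assoc]
  set D1 := a * w₁ - a * w
  set D2 := w₁ * a - w * a
  have hD : ∀ ν : (ZMod p)ˣ, Q.torus ν = u * P.torus ν * u⁻¹ →
      ((ν : ZMod p) - 1) • D1 + (((ν⁻¹ : (ZMod p)ˣ) : ZMod p) - 1) • D2 = 0 := by
    intro ν e
    have := hform ν
    rw [← e, Q.coe_torus, add_assoc, add_assoc] at this
    have := add_left_cancel this
    simp only [D1, D2, smul_sub]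
    rw [sub_add_sub_comm, this, sub_self]
  have d1 := hD μ hpow
  have d2 := hD (μ * μ) (by rw [map_mul, map_mul, ← hh, ← hh', hpow]; group)
  have hμ : (μ : ZMod p) = 2 := rfl
  have e1 : (2 : ZMod p) • D1 = D2 := by
    have := congrArg (fun x => (2 : ZMod p) • x) d1
    simp only [hμ, smul_add, smul_smul, mul_sub, smul_zero, mul_one] at this
    rw [← hμ, Units.mul_inv, hμ] at this
    rw [show (2 : ZMod p) * 2 - 2 = 2 by ring, show (1 : ZMod p) - 2 = -1 by ring, neg_one_smul,
      ← sub_eq_add_neg, sub_eq_zero] at this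
    exact this
  have e2 : (4 : ZMod p) • D1 = D2 := by
    have hν : ((μ * μ : (ZMod p)ˣ) : ZMod p) = 4 := by
      show (2 : ZMod p) * 2 = 4
      norm_num
    have h3 : (3 : ZMod p) ≠ 0 := by
      intro h
      have h' : ((3 : ℕ) : ZMod p) = 0 := by exact_mod_cast h
      have := Nat.le_of_dvd (by norm_num) ((ZMod.natCast_eq_zero_iff _ _).mp h')
      omega
    have := congrArg (fun x => (4 : ZMod p) • x) d2
    simp only [hν, smul_add, smul_smul, mul_sub, smul_zero, mul_one] at this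
    rw [← hν, Units.mul_inv, hν] at this
    rw [show (4 : ZMod p) * 4 - 4 = 3 * 4 by ring, show (1 : ZMod p) - 4 = 3 * -1 by ring, ← smul_smul,
      ← smul_smul, ← smul_add, smul_eq_zero] at this
    rw [neg_one_smul, ← sub_eq_add_neg, sub_eq_zero] at this
    exact this.resolve_left h3
  have hD1 : D1 = 0 := by
    have : (4 - 2 : ZMod p) • D1 = 0 := by rw [sub_smul, e2, e1, sub_self]
    rw [show (4 - 2 : ZMod p) = 2 by norm_num] at this
    exact (smul_eq_zero.mp this).resolve_left (two_ne hp5)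
  have hD2 : D2 = 0 := by rw [← e1, hD1, smul_zero]
  rw [sub_eq_zero] at hD1 hD2
  calc w₁ = w₁ * a * w₁ := f2.symm
    _ = w * (a * w₁) := by rw [hD2, mul_assoc]
    _ = w := by rw [hD1, ← mul_assoc, Q.vav]

theorem exists_fixed_partner (hp5 : 5 ≤ p) (hop : NoNormalP p G)
    (Bs : Subgroup (GLM (ZMod p) M)) (hn : Bs ≤ Subgroup.normalizer (G : Set (GLM (ZMod p) M)))
    (hco : (Nat.card Bs).Coprime (Nat.card G)) (hsol : Group.IsSolvable Bs)
    (hmin : ∀ β ∈ Bs, ∀ x, MinQ G x → MinQ G (cjg β x))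
    (ha : MinQ G a) (hfix : ∀ β ∈ Bs, cjg β a = a) :
    ∃ v, OppPair G a v ∧ ∀ β ∈ Bs, cjg β v = v := by
  haveI := finite_gl (p := p) (M := M)
  obtain ⟨v, hv, e1, e2⟩ := exists_opp hp5 hop ha
  have P : OppPair G a v := ⟨ha, hv, e1, e2⟩
  have hP : ∀ β ∈ Bs, OppPair G a (cjg β v) := fun β hβ =>
    ⟨ha, hmin β hβ v hv,
      by conv_lhs => rw [← hfix β hβ, ← cjg_mul_mul, ← cjg_mul_mul, e1, hfix β hβ],
      by conv_lhs => rw [← hfix β hβ, ← cjg_mul_mul, ← cjg_mul_mul, e2]⟩
  have hnU : Bs ≤ Subgroup.normalizer (coreGroup G a : Set (GLM (ZMod p) M)) := by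
    have key : ∀ β ∈ Bs, ∀ g ∈ coreGroup G a, β * g * β⁻¹ ∈ coreGroup G a := by
      rintro β hβ g ⟨hg, g1, g2, g3⟩
      have hf : cjg β a = a := hfix β hβ
      refine ⟨(Subgroup.mem_normalizer_iff.mp (hn hβ) g).mp hg, ?_, ?_, fun m hm => ?_⟩
      · conv_lhs => rw [← hf]
        conv_rhs => rw [← hf, ← g1]
        simp only [cjg, Units.val_mul, mul_assoc, Units.inv_mul_cancel_left]
      · conv_lhs => rw [← hf]
        conv_rhs => rw [← hf, ← g2]
        simp only [cjg, Units.val_mul, mul_assoc, Units.inv_mul_cancel_left]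
      · have hβi := hfix β⁻¹ (inv_mem hβ)
        rw [cjg, inv_inv] at hβi
        set m' := ((β⁻¹ : GLM (ZMod p) M) : Module.End (ZMod p) M) m with hm'
        have h0 : a m' = 0 := by
          rw [← hβi, hm', ← Module.End.mul_apply, mul_assoc, Units.mul_inv, mul_one,
            Module.End.mul_apply, hm, map_zero]
        obtain ⟨q, hq⟩ := g3 m' h0
        refine ⟨(β : Module.End (ZMod p) M) q, ?_⟩
        have e : (β : Module.End (ZMod p) M) m' = m := by
          rw [hm', ← Module.End.mul_apply, Units.mul_inv]; rfl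
        rw [Units.val_mul, Units.val_mul, Module.End.mul_apply, Module.End.mul_apply, ← hm']
        conv_rhs => arg 2; rw [← e]
        rw [← map_sub, ← hq]
        conv_lhs => rw [← hf]
        rw [cjg, ← Module.End.mul_apply, mul_assoc, Units.inv_mul, mul_one, Module.End.mul_apply]
    intro β hβ
    rw [Subgroup.mem_normalizer_iff]
    refine fun g => ⟨key β hβ g, fun h => ?_⟩
    have := key β⁻¹ (inv_mem hβ) _ h
    simpa [mul_assoc] using this
  obtain ⟨u, hu, hfu⟩ := exists_fixed_end _ Bs hnU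
    (hco.coprime_dvd_right (Subgroup.card_dvd_of_le fun g hg => hg.1)) hsol v
    (fun β hβ => by
      obtain ⟨u, hu, e⟩ := exists_core_conj hp5 P (hP β hβ)
      exact ⟨u, hu, e.symm⟩)
  refine ⟨cjg u v, ?_, hfu⟩
  obtain ⟨huG, u1, u2, -⟩ := hu
  have hua : cjg u a = a := by
    rw [cjg, u2]
    conv_lhs => rw [← u1, Units.mul_inv_cancel_right]
  exact ⟨ha, hv.conj huG, by conv_lhs => rw [← hua, ← cjg_mul_mul, ← cjg_mul_mul, e1, hua],
    by conv_lhs => rw [← hua, ← cjg_mul_mul, ← cjg_mul_mul, e2]⟩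

end H51
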