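import Cfsg.Agent.H51.EqZJ.Opp
import Cfsg.Agent.H51.EqZJ.Conj
import Cfsg.Agent.H51.EqZJ.Jordan
import Cfsg.Agent.H56.QPInvol

/-!
An odd coprime group stabilising a root subgroup fixes a nonzero element of it.
-/

set_option autoImplicit false
set_option linter.unusedSectionVars false

namespace H51

open Cfsg LinearMap H56Q

variable {p : ℕ} [hp : Fact p.Prime] {M : Type*} [AddCommGroup M] [Module (ZMod p) M]
  [FiniteDimensional (ZMod p) M]
variable {G E : Subgroup (GLM (ZMod p) M)} {a a₀ v x y : Module.End (ZMod p) M}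

theorem coe_weyl_inv (hx : x * x = 0) (hv : v * v = 0) (e1 : x * v * x = x) :
    (((weyl x v hx hv)⁻¹ : GLM (ZMod p) M) : Module.End (ZMod p) M) =
      1 - (x * v + v * x) - (x - v) := by
  simp only [weyl, mul_inv_rev, inv_inv, Units.val_mul, coe_qu, coe_qu_inv, mul_add, add_mul,
    sub_mul, mul_sub, one_mul, mul_one, ← mul_assoc, e1, hx]
  abel

/-- the Weyl element carries the root subspace of `v` to that of `x` -/
theorem cjg_weyl (hx : x * x = 0) (hv : v * v = 0) (e1 : x * v * x = x) (e2 : v * x * v = v)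
    (hy : InRoot G v y) : cjg (weyl x v hx hv) y = -(x * y * x) := by
  have l := hy.eq_left e2
  have r := hy.eq_right e2
  have vy : v * y = 0 := mul_eq_zero_of_le le_rfl hy.2.1 hv
  have yv : y * v = 0 := mul_eq_zero_of_le hy.2.2 le_rfl hv
  have h1 : ((weyl x v hx hv : GLM (ZMod p) M) : Module.End (ZMod p) M) * y = x * y := by
    rw [coe_weyl hx hv e1]
    simp only [add_mul, sub_mul, one_mul, mul_assoc, vy, mul_zero]
    rw [← mul_assoc v x y, l]
    abel
  rw [cjg, h1, coe_weyl_inv hx hv e1]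
  simp only [mul_sub, mul_add, mul_one, mul_assoc]
  rw [← mul_assoc y v x, yv, zero_mul, mul_zero, ← mul_assoc y x v, r]
  abel

theorem weyl_mem (hx : Fam G x) (hv : Fam G v) : weyl x v hx.sq hv.sq ∈ G :=
  mul_mem (mul_mem hx.qu_mem (inv_mem hv.qu_mem)) hx.qu_mem

/-- conjugation by an element stabilising a root subgroup preserves its root subspace -/
theorem inRoot_cjg (hE : IsRootOf G E a₀) {g : GLM (ZMod p) M} (hg : conjBy E g = E)
    (hx : InRoot G a₀ x) : InRoot G a₀ (cjg g x) := by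
  have hmem : g * qu x hx.1.1 * g⁻¹ ∈ E :=
    hg ▸ (⟨_, hE.qu_mem hx, rfl⟩ : g * qu x hx.1.1 * g⁻¹ ∈ conjBy E g)
  have := (hE.2 _).mp hmem
  rwa [conj_coe g (coe_qu x hx.1.1), add_sub_cancel_left] at this

theorem conjBy_of_inRoot (hE : IsRootOf G E a₀) (hE' : IsRootOf G E a) {g : GLM (ZMod p) M}
    (hg : g ∈ G) (hx : InRoot G a₀ (cjg g a)) : conjBy E g = E := by
  have h1 := hE'.conj hg
  exact h1.unique (hE.change hx h1.1.ne)

/-- the elements of `G` stabilising `E` -/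
def stabRoot (G E : Subgroup (GLM (ZMod p) M)) : Subgroup (GLM (ZMod p) M) where
  carrier := {g | g ∈ G ∧ conjBy E g = E}
  one_mem' := ⟨one_mem G, conjBy_id E⟩
  mul_mem' := fun {g h} hg hh => ⟨mul_mem hg.1 hh.1, by rw [← conjBy_comp, hh.2, hg.2]⟩
  inv_mem' := fun {g} hg => ⟨inv_mem hg.1, by
    conv_lhs => rw [← hg.2]
    rw [conjBy_comp, inv_mul_cancel, conjBy_id]⟩

theorem inRoot_triple_inner (hv : MinQ G v) (ha : MinQ G a) (e1 : a * v * a = a)
    (e2 : v * a * v = v) (hy : InRoot G a y) : InRoot G v (v * y * v) := by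
  refine ⟨?_, ?_, fun m hm => ?_⟩
  · have h := hy.1.conj (weyl_mem hv.fam ha.fam)
    rw [← cjg, cjg_weyl hv.sq ha.sq e2 e1 hy] at h
    simpa using h.neg
  · rw [mul_assoc]; exact LinearMap.range_comp_le_range _ _
  · show v (y (v m)) = 0
    rw [(hm : v m = 0), map_zero, map_zero]

theorem inRoot_triple (hp5 : 5 ≤ p) (ha : MinQ G a) (hv : MinQ G v)
    (e1 : a * v * a = a) (hx : InRoot G a x) (hy : InRoot G v y) : InRoot G a (x * y * x) := by
  refine ⟨?_, ?_, fun m hm => ?_⟩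
  · by_cases hx0 : x = 0
    · simpa [hx0] using (Fam.zero : Fam G (0 : Module.End (ZMod p) M))
    have hn : ¬ IsNilpotent (v * a) := fun h => ha.ne (e1 ▸ (aba_bab_zero (two_ne hp5) ha hv h).1)
    obtain ⟨v', hv', f1, f2, -⟩ := exists_partner (two_ne hp5) (card_ne_three hp5)
      (hx.eq_of_ne ha hx0).1 hv
      (pair_nonnilpotent (two_ne hp5) ha hv hn hx hx0 (InRoot.self hv.fam) hv.ne)
    have hv'0 : v' ≠ 0 := by rintro rfl; exact hx0 (by simpa using f1.symm)
    obtain ⟨-, hr, hk⟩ := hv'.eq_of_ne hv hv'0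
    have h := hy.1.conj (weyl_mem hx.1 hv'.1)
    rw [← cjg, cjg_weyl hx.1.sq hv'.1.sq f1 f2 ⟨hy.1, hr ▸ hy.2.1, hk ▸ hy.2.2⟩] at h
    simpa using h.neg
  · rw [mul_assoc]; exact (LinearMap.range_comp_le_range _ _).trans hx.2.1
  · show x (y (x m)) = 0
    rw [(hx.2.2 hm : x m = 0), map_zero, map_zero]

theorem sq_fibre (hp5 : 5 ≤ p) (ha : MinQ G a) (hv : MinQ G v) (e1 : a * v * a = a)
    (e2 : v * a * v = v) (hx : InRoot G a x) (hy : InRoot G a y) (h : x * v * x = y * v * y) :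
    y = x ∨ y = -x := by
  have pres : ∀ z, InRoot G a z → ∀ w ∈ range a, (z * v) w ∈ range a :=
    fun z hz w _ => hz.2.1 (mem_range_self z (v w))
  let ρ : ∀ z, InRoot G a z → Module.End (ZMod p) (range a) := fun z hz => (z * v).restrict (pres z hz)
  let K : AddSubgroup (Module.End (ZMod p) (range a)) :=
    { carrier := {f | ∃ z, InRoot G a z ∧ ∀ w : range a, (f w : M) = z (v w)}
      zero_mem' := ⟨0, InRoot.zero, fun w => by simp⟩
      add_mem' := by
        rintro f g ⟨z, hz, ez⟩ ⟨z', hz', ez'⟩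
        exact ⟨z + z', hz.add ha.sq hz', fun w => by simp [ez, ez']⟩
      neg_mem' := by
        rintro f ⟨z, hz, ez⟩
        exact ⟨(-1 : ZMod p) • z, hz.smul _, fun w => by simp [ez]⟩ }
  have hav : ∀ w : range a, a (v w) = (w : M) := by
    rintro ⟨_, m, rfl⟩
    exact LinearMap.congr_fun e1 m
  haveI : Finite M := Module.finite_of_finite (ZMod p)
  haveI : Finite (Module.End (ZMod p) (range a)) :=
    Finite.of_injective (fun f : Module.End (ZMod p) (range a) => (f : range a → range a))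
      DFunLike.coe_injective
  have key := sq_eq_sq_of_triple_closed K (p := p)
    ⟨a, InRoot.self ha.fam, fun w => by simp [hav]⟩
    (by
      rintro f ⟨z, hz, ez⟩ hf
      have hz0 : z ≠ 0 := fun e => hf (LinearMap.ext fun w => Subtype.ext (by simp [ez, e]))
      obtain ⟨-, -, hk⟩ := hz.eq_of_ne ha hz0
      have hinj : Function.Injective f := by
        refine (injective_iff_map_eq_zero f).mpr fun w hw => Subtype.ext ?_
        have : (v w : M) ∈ ker z := (ez w).symm.trans (by rw [hw]; rfl)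
        rw [hk, LinearMap.mem_ker, hav] at this
        exact this
      exact (Module.End.isUnit_iff f).mpr ⟨hinj, LinearMap.injective_iff_surjective.mp hinj⟩)
    (by
      rintro f ⟨z, hz, ez⟩ g ⟨z', hz', ez'⟩
      refine ⟨z * (v * z' * v) * z, inRoot_triple hp5 ha hv e1 hz
        (inRoot_triple_inner hv ha e1 e2 hz'), fun w => ?_⟩
      simp [Module.End.mul_apply, ez, ez'])
    ((Fact.out : p.Prime).odd_of_ne_two (by omega))
    (by rw [← map_natCast (algebraMap (ZMod p) (Module.End (ZMod p) (range a))) p, ZMod.natCast_self,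
      map_zero])
    (x := ρ x hx) (y := ρ y hy) ⟨x, hx, fun w => rfl⟩ ⟨y, hy, fun w => rfl⟩
    (LinearMap.ext fun w => Subtype.ext (by
      show x (v (x (v w))) = y (v (y (v w)))
      exact LinearMap.congr_fun h (v w)))
  have back : ∀ z, InRoot G a z → ∀ m, z (v (a m)) = z m := fun z hz m =>
    LinearMap.congr_fun (hz.eq_right e1) m
  rcases key with e | e
  · refine Or.inl (LinearMap.ext fun m => ?_)
    have := congrArg Subtype.val (LinearMap.congr_fun e ⟨a m, mem_range_self a m⟩)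
    simpa [ρ, back x hx, back y hy] using this
  · refine Or.inr (LinearMap.ext fun m => ?_)
    have := congrArg Subtype.val (LinearMap.congr_fun e ⟨a m, mem_range_self a m⟩)
    simpa [ρ, back x hx, back y hy] using this

/-- the orbit of `a` under the stabiliser of its root subgroup -/
def rootOrbit (G E : Subgroup (GLM (ZMod p) M)) (a : Module.End (ZMod p) M) :
    Set (Module.End (ZMod p) M) := {z | ∃ g ∈ stabRoot G E, z = cjg g a}

theorem rootOrbit_eq {z : Module.End (ZMod p) M} (h : z ∈ rootOrbit G E a) :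
    rootOrbit G E z = rootOrbit G E a := by
  obtain ⟨g, hg, rfl⟩ := h
  ext w
  constructor
  · rintro ⟨g', hg', rfl⟩
    exact ⟨g' * g, mul_mem hg' hg, (cjg_mul _ _ _).symm⟩
  · rintro ⟨g', hg', rfl⟩
    exact ⟨g' * g⁻¹, mul_mem hg' (inv_mem hg), by rw [cjg_mul, cjg_inv_cjg]⟩

/-- the nonzero elements of a root subspace -/
def rootSharp (G : Subgroup (GLM (ZMod p) M)) (a₀ : Module.End (ZMod p) M) :
    Set (Module.End (ZMod p) M) := {z | InRoot G a₀ z ∧ z ≠ 0}

theorem orbit_large (hp5 : 5 ≤ p) (hop : NoNormalP p G) (hE : IsRootOf G E a₀)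
    (ha : InRoot G a₀ a) (ha0 : a ≠ 0) :
    (rootSharp G a₀).ncard ≤ 2 * (rootOrbit G E a).ncard := by
  classical
  haveI := finite_end (p := p) (M := M)
  have hEa := hE.change ha ha0
  obtain ⟨-, har, hak⟩ := ha.eq_of_ne hE.1 ha0
  obtain ⟨v, hv, e1, e2⟩ := exists_opp hp5 hop hEa.1
  have hn : ¬ IsNilpotent (v * a) := fun h =>
    ha0 (e1 ▸ (aba_bab_zero (two_ne hp5) hEa.1 hv h).1)
  have himg : ∀ z ∈ rootSharp G a₀, z * v * z ∈ rootOrbit G E a := by
    rintro z ⟨hz, hz0⟩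
    have hza : InRoot G a z := ⟨hz.1, har ▸ hz.2.1, hak ▸ hz.2.2⟩
    obtain ⟨v', hv', f1, f2, -⟩ := exists_partner (two_ne hp5) (card_ne_three hp5)
      (hz.eq_of_ne hE.1 hz0).1 hv
      (pair_nonnilpotent (two_ne hp5) hEa.1 hv hn hza hz0 (InRoot.self hv.fam) hv.ne)
    have hv'0 : v' ≠ 0 := by rintro rfl; exact hz0 (by simpa using f1.symm)
    obtain ⟨-, hr, hk⟩ := hv'.eq_of_ne hv hv'0
    set w₁ := weyl z v' hz.1.sq hv'.1.sq with hw₁
    set w₂ := weyl a v hEa.1.sq hv.sq with hw₂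
    have h2v : cjg w₂⁻¹ a = -v := by
      have := cjg_weyl hEa.1.sq hv.sq e1 e2 (InRoot.self hv.fam)
      rw [e1] at this
      have e := congrArg (cjg w₂⁻¹) this
      rw [cjg_inv_cjg] at e
      rw [e]
      simp [cjg]
    have h1v : cjg w₁ (-v) = z * v * z := by
      have := cjg_weyl hz.1.sq hv'.1.sq f1 f2 (y := v) ⟨hv.fam, hr.ge, hk.le⟩
      rw [show cjg w₁ (-v) = -cjg w₁ v by simp [cjg], this, neg_neg]
    have hga : cjg (w₁ * w₂⁻¹) a = z * v * z := by rw [cjg_mul, h2v, h1v]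
    have hgG : w₁ * w₂⁻¹ ∈ G :=
      mul_mem (weyl_mem hz.1 hv'.1) (inv_mem (weyl_mem hEa.1.fam hv.fam))
    refine ⟨_, ⟨hgG, conjBy_of_inRoot hE hEa hgG ?_⟩, hga.symm⟩
    rw [hga]
    have := inRoot_triple hp5 hEa.1 hv e1 hza (InRoot.self hv.fam)
    exact ⟨this.1, har ▸ this.2.1, hak ▸ this.2.2⟩
  set S := (rootSharp G a₀).toFinite.toFinset
  set O := (rootOrbit G E a).toFinite.toFinset
  rw [Set.ncard_eq_toFinset_card _, Set.ncard_eq_toFinset_card _]
  refine (Finset.card_le_mul_card_image (f := fun z => z * v * z) S 2 ?_).trans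
    (Nat.mul_le_mul_left 2 (Finset.card_le_card ?_))
  · intro q hq
    obtain ⟨z, hz, rfl⟩ := Finset.mem_image.mp hq
    refine (Finset.card_le_card (t := {z, -z}) ?_).trans Finset.card_le_two
    intro w hw
    simp only [Finset.mem_filter, S, Set.Finite.mem_toFinset] at hw hz
    rcases sq_fibre hp5 hEa.1 hv e1 e2 ⟨hz.1.1, har ▸ hz.1.2.1, hak ▸ hz.1.2.2⟩
      ⟨hw.1.1.1, har ▸ hw.1.1.2.1, hak ▸ hw.1.1.2.2⟩ hw.2.symm with e | e <;> simp [e]
  · intro q hq
    obtain ⟨z, hz, rfl⟩ := Finset.mem_image.mp hq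
    simp only [S, O, Set.Finite.mem_toFinset] at hz ⊢
    exact himg z hz

theorem exists_fixed_root_elt (hp5 : 5 ≤ p) (hop : NoNormalP p G)
    (Bs : Subgroup (GLM (ZMod p) M)) (hn : Bs ≤ Subgroup.normalizer (G : Set (GLM (ZMod p) M)))
    (hco : (Nat.card Bs).Coprime (Nat.card G)) (hodd : Odd (Nat.card Bs))
    (hsol : Group.IsSolvable Bs) (hE : IsRootOf G E a₀) (hBE : ∀ β ∈ Bs, conjBy E β = E) :
    ∃ a, InRoot G a₀ a ∧ a ≠ 0 ∧ ∀ β ∈ Bs, cjg β a = a := by
  haveI := finite_gl (p := p) (M := M)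
  haveI := finite_end (p := p) (M := M)
  have hBD : ∀ β ∈ Bs, ∀ g ∈ stabRoot G E, β * g * β⁻¹ ∈ stabRoot G E := by
    intro β hβ g hg
    refine ⟨(Subgroup.mem_normalizer_iff.mp (hn hβ) g).mp hg.1, ?_⟩
    rw [← conjBy_comp, ← conjBy_comp, hBE _ (inv_mem hβ), hg.2, hBE _ hβ]
  have hnD : Bs ≤ Subgroup.normalizer (stabRoot G E : Set (GLM (ZMod p) M)) := by
    intro β hβ
    rw [Subgroup.mem_normalizer_iff]
    refine fun g => ⟨hBD β hβ g, fun h => ?_⟩
    have := hBD β⁻¹ (inv_mem hβ) _ h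
    simpa [mul_assoc] using this
  have hcoD : (Nat.card Bs).Coprime (Nat.card (stabRoot G E)) :=
    hco.coprime_dvd_right (Subgroup.card_dvd_of_le fun g hg => hg.1)
  have hshift : ∀ β ∈ Bs, ∀ z w, w ∈ rootOrbit G E z → cjg β w ∈ rootOrbit G E (cjg β z) := by
    rintro β hβ z _ ⟨g, hg, rfl⟩
    exact ⟨β * g * β⁻¹, hBD β hβ g hg, by rw [← cjg_mul, ← cjg_mul, inv_mul_cancel_right]⟩
  have hin : ∀ z ∈ rootSharp G a₀, rootOrbit G E z ⊆ rootSharp G a₀ := by
    rintro z hz _ ⟨g, hg, rfl⟩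
    refine ⟨inRoot_cjg hE hg.2 hz.1, fun h => hz.2 ?_⟩
    rw [← cjg_inv_cjg g z, h]
    simp [cjg]
  have hSβ : ∀ β ∈ Bs, ∀ z ∈ rootSharp G a₀, cjg β z ∈ rootSharp G a₀ := by
    intro β hβ z hz
    refine ⟨inRoot_cjg hE (hBE β hβ) hz.1, fun h => hz.2 ?_⟩
    rw [← cjg_inv_cjg β z, h]
    simp [cjg]
  have ha₀ : a₀ ∈ rootSharp G a₀ := ⟨InRoot.self hE.1.fam, hE.1.ne⟩
  have hinv : ∀ β ∈ Bs, ∃ g ∈ stabRoot G E, cjg β a₀ = cjg g a₀ := by
    intro β hβ
    by_contra hcon
    set O := rootOrbit G E a₀ with hO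
    have hself : ∀ z, z ∈ rootOrbit G E z := fun z => ⟨1, one_mem _, (cjg_one z).symm⟩
    set b := cjg β a₀ with hb
    have hbS := hSβ β hβ a₀ ha₀
    have hdis : Disjoint O (rootOrbit G E b) := by
      rw [Set.disjoint_left]
      intro z hz hz'
      apply hcon
      have : b ∈ O := by rw [hO, ← rootOrbit_eq hz, rootOrbit_eq hz']; exact hself b
      exact this
    have hcover : rootSharp G a₀ = O ∪ rootOrbit G E b := by
      refine (Set.eq_of_subset_of_ncard_le (Set.union_subset (hin _ ha₀) (hin _ hbS)) ?_).symm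
      rw [Set.ncard_union_eq hdis]
      have h1 := orbit_large hp5 hop hE ha₀.1 ha₀.2
      have h2 : (rootSharp G a₀).ncard ≤ 2 * (rootOrbit G E b).ncard :=
        orbit_large hp5 hop hE hbS.1 hbS.2
      rw [← hO] at h1
      omega
    have hsq : cjg (β * β) a₀ ∈ O := by
      have hm := hSβ _ (mul_mem hβ hβ) a₀ ha₀
      rw [hcover] at hm
      refine hm.resolve_right fun h => hcon ?_
      rw [cjg_mul, ← hb] at h
      have h' : cjg β⁻¹ b ∈ rootOrbit G E (cjg β⁻¹ (cjg β b)) :=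
        hshift β⁻¹ (inv_mem hβ) _ _ (by rw [rootOrbit_eq h]; exact hself b)
      rw [cjg_inv_cjg, hb, cjg_inv_cjg, ← hb] at h'
      exact (show b ∈ O by rw [hO, rootOrbit_eq h']; exact hself b)
    have hev : ∀ n, cjg (β ^ (2 * n)) a₀ ∈ O := by
      intro n
      induction n with
      | zero => simpa [cjg_one] using hself a₀
      | succ n ih =>
        have h1 := hshift (β * β) (mul_mem hβ hβ) _ _ ih
        rw [rootOrbit_eq hsq] at h1
        rw [← cjg_mul] at h1
        rwa [show β ^ (2 * (n + 1)) = β * β * β ^ (2 * n) by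
          rw [mul_add, pow_add, mul_one, ← pow_two, ← pow_add, ← pow_add, add_comm]]
    obtain ⟨m, hm⟩ := hodd
    have h1 : β ^ (2 * (m + 1)) = β := by
      have hpow : β ^ (Nat.card Bs) = 1 :=
        congrArg Subtype.val (pow_card_eq_one' (G := Bs) (x := ⟨β, hβ⟩))
      rw [show 2 * (m + 1) = Nat.card Bs + 1 by omega, pow_succ, hpow, one_mul]
    have := hev (m + 1)
    rw [h1] at this
    exact hcon this
  obtain ⟨g, hg, hfix⟩ := exists_fixed_end _ Bs hnD hcoD hsol a₀ hinv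
  have := hin a₀ ha₀ ⟨g, hg, rfl⟩
  exact ⟨_, this.1, this.2, hfix⟩

end H51
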