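import Cfsg.Agent.H51.EqZJ.Root
import Cfsg.Agent.H56.QPSL
import Cfsg.Agent.H98.SL2Hom

/-!
The copy of `SL₂(p)` attached to an opposite pair of root elements.
-/

set_option autoImplicit false
set_option linter.unusedSectionVars false

namespace H51

open Cfsg LinearMap H56Q Matrix

variable {p : ℕ} [hp : Fact p.Prime] {M : Type*} [AddCommGroup M] [Module (ZMod p) M]
  [FiniteDimensional (ZMod p) M]
variable {G : Subgroup (GLM (ZMod p) M)} {a v : Module.End (ZMod p) M}

/-- an opposite pair -/
structure OppPair (G : Subgroup (GLM (ZMod p) M)) (a v : Module.End (ZMod p) M) : Prop where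
  ma : MinQ G a
  mv : MinQ G v
  ava : a * v * a = a
  vav : v * a * v = v

/-- the matrix units of an opposite pair -/
noncomputable def OppPair.units (P : OppPair G a v) : UnitSys (ZMod p) (Module.End (ZMod p) M) where
  ρ := { toFun := fun c => c • (a * v + v * a), map_zero' := zero_smul _ _,
         map_add' := fun c d => add_smul c d _ }
  s := a
  t := v
  rho_mul x y := by
    show (x * y) • (a * v + v * a) = x • (a * v + v * a) * y • (a * v + v * a)
    rw [smul_mul_smul_comm]
    congr 1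
    simp only [mul_add, add_mul, ← mul_assoc, P.ava, P.vav]
    rw [mul_assoc a v v, P.mv.sq, mul_assoc v a a, P.ma.sq]
    simp
  cs x := by
    show x • (a * v + v * a) * a = a * x • (a * v + v * a)
    rw [smul_mul_assoc, mul_smul_comm, add_mul, mul_add, ← mul_assoc a a, P.ma.sq, zero_mul,
      mul_assoc v a a, P.ma.sq, mul_zero, ← mul_assoc a v a]
    abel
  ct x := by
    show x • (a * v + v * a) * v = v * x • (a * v + v * a)
    rw [smul_mul_assoc, mul_smul_comm, add_mul, mul_add, ← mul_assoc v v, P.mv.sq, zero_mul,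
      mul_assoc a v v, P.mv.sq, mul_zero, ← mul_assoc v a v]
    abel
  one_sum := one_smul _ _
  ss := P.ma.sq
  tt := P.mv.sq
  sts := P.ava
  tst := P.vav
  inj x h := by
    replace h : x • (a * v + v * a) * a = 0 := h
    rw [smul_mul_assoc, add_mul, mul_assoc v a a, P.ma.sq, mul_zero, add_zero, P.ava] at h
    exact (smul_eq_zero.mp h).resolve_right P.ma.ne

/-- the homomorphism from `SL₂(p)` -/
noncomputable def OppPair.sl (P : OppPair G a v) :
    SpecialLinearGroup (Fin 2) (ZMod p) →* GLM (ZMod p) M := P.units.phi.toHomUnits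

theorem OppPair.sl_injective (P : OppPair G a v) : Function.Injective P.sl := fun _ _ h =>
  P.units.phi_injective (congrArg (fun u : GLM (ZMod p) M => (u : Module.End (ZMod p) M)) h)

theorem OppPair.sl_upr (P : OppPair G a v) (c : ZMod p) :
    (P.sl (upr c) : Module.End (ZMod p) M) = 1 + c • a := by
  refine (P.units.phi_upr c).trans ?_
  show 1 + c • (a * v + v * a) * a = _
  rw [smul_mul_assoc, add_mul, mul_assoc v a a, P.ma.sq, mul_zero, add_zero, P.ava]

theorem OppPair.sl_lwr (P : OppPair G a v) (c : ZMod p) :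
    (P.sl (lwr c) : Module.End (ZMod p) M) = 1 + c • v := by
  refine (P.units.phi_lwr c).trans ?_
  show 1 + c • (a * v + v * a) * v = _
  rw [smul_mul_assoc, add_mul, mul_assoc a v v, P.mv.sq, mul_zero, zero_add, P.vav]

theorem sl2_generated (H : Subgroup (SpecialLinearGroup (Fin 2) (ZMod p)))
    (hu : ∀ c : ZMod p, upr c ∈ H) (hl : ∀ c : ZMod p, lwr c ∈ H) : H = ⊤ := by
  rw [eq_top_iff, ← H98.upper_sup_lower (k := ZMod p)]
  refine sup_le ((Subgroup.closure_le H).mpr ?_) ((Subgroup.closure_le H).mpr ?_)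
  · rintro g ⟨h10, h00, h11⟩
    have e : g = upr (g 0 1) := ext2 h00 rfl h10 h11
    rw [SetLike.mem_coe, e]
    exact hu _
  · rintro g ⟨h01, h00, h11⟩
    have e : g = lwr (g 1 0) := ext2 h00 h01 rfl h11
    rw [SetLike.mem_coe, e]
    exact hl _

theorem OppPair.sl_mem (P : OppPair G a v) (g : SpecialLinearGroup (Fin 2) (ZMod p)) :
    P.sl g ∈ G := by
  have : G.comap P.sl = ⊤ := sl2_generated _ (fun c => P.ma.fam.mem_of_eq (P.sl_upr c))
    (fun c => P.mv.fam.mem_of_eq (P.sl_lwr c))
  exact (this ▸ Subgroup.mem_top g : g ∈ G.comap P.sl)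

theorem OppPair.sl_commute (P : OppPair G a v) {β : GLM (ZMod p) M} (ha : cjg β a = a)
    (hv : cjg β v = v) (g : SpecialLinearGroup (Fin 2) (ZMod p)) : Commute β (P.sl g) := by
  have key : ∀ (x : Module.End (ZMod p) M) (t : GLM (ZMod p) M) (c : ZMod p),
      (t : Module.End (ZMod p) M) = 1 + c • x → cjg β x = x → β * t = t * β := by
    intro x t c et ex
    have : β * t * β⁻¹ = t := by
      refine Units.ext ?_
      rw [conj_coe β et, mul_smul_comm, smul_mul_assoc, et]
      exact congrArg (fun y => 1 + c • y) ex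
    exact mul_inv_eq_iff_eq_mul.mp this
  have : (Subgroup.centralizer ({β} : Set (GLM (ZMod p) M))).comap P.sl = ⊤ := sl2_generated _
    (fun c => Subgroup.mem_centralizer_singleton_iff.mpr (key a _ c (P.sl_upr c) ha).symm)
    (fun c => Subgroup.mem_centralizer_singleton_iff.mpr (key v _ c (P.sl_lwr c) hv).symm)
  exact (Subgroup.mem_centralizer_singleton_iff.mp (this ▸ Subgroup.mem_top g :
    g ∈ (Subgroup.centralizer ({β} : Set (GLM (ZMod p) M))).comap P.sl)).symm

/-- the diagonal matrix `diag(μ, μ⁻¹)` -/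
def diagSL (μ : (ZMod p)ˣ) : SpecialLinearGroup (Fin 2) (ZMod p) :=
  ⟨!![(μ : ZMod p), 0; 0, ((μ⁻¹ : (ZMod p)ˣ) : ZMod p)], by
    rw [Matrix.det_fin_two_of, mul_zero, sub_zero, Units.mul_inv]⟩

theorem diagSL_mul (μ ν : (ZMod p)ˣ) : (diagSL (μ * ν) : SpecialLinearGroup (Fin 2) (ZMod p)) =
    diagSL μ * diagSL ν :=
  ext2
    (by rw [mul00]; show ((μ * ν : (ZMod p)ˣ) : ZMod p) = _ * _ + 0 * 0; rw [mul_zero, add_zero]; rfl)
    (by rw [mul01]; show (0 : ZMod p) = _ * 0 + 0 * _; rw [mul_zero, zero_mul, add_zero])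
    (by rw [mul10]; show (0 : ZMod p) = 0 * _ + _ * 0; rw [mul_zero, zero_mul, add_zero])
    (by rw [mul11]; show (((μ * ν)⁻¹ : (ZMod p)ˣ) : ZMod p) = 0 * 0 + _ * _
        rw [mul_zero, zero_add, mul_inv]; rfl)

/-- the torus of an opposite pair -/
noncomputable def OppPair.torus (P : OppPair G a v) : (ZMod p)ˣ →* GLM (ZMod p) M :=
  P.sl.comp (MonoidHom.mk' diagSL diagSL_mul)

theorem OppPair.torus_injective (P : OppPair G a v) : Function.Injective P.torus := by
  intro μ ν h
  have := P.sl_injective h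
  have e := congrArg (fun g : SpecialLinearGroup (Fin 2) (ZMod p) => g 0 0) this
  exact Units.ext e

theorem OppPair.torus_mem (P : OppPair G a v) (μ : (ZMod p)ˣ) : P.torus μ ∈ G := P.sl_mem _

theorem OppPair.coe_torus (P : OppPair G a v) (μ : (ZMod p)ˣ) :
    (P.torus μ : Module.End (ZMod p) M) =
      1 + ((μ : ZMod p) - 1) • (a * v) + (((μ⁻¹ : (ZMod p)ˣ) : ZMod p) - 1) • (v * a) := by
  show 1 - P.units.ρ 1 + P.units.psi (diagSL μ).1 = _
  have ea : (a * v + v * a) * (a * v) = a * v := by
    rw [add_mul, ← mul_assoc, P.ava, mul_assoc v a (a * v), ← mul_assoc a a v, P.ma.sq]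
    simp
  have ev : (a * v + v * a) * (v * a) = v * a := by
    rw [add_mul, ← mul_assoc (v * a), P.vav, mul_assoc a v (v * a), ← mul_assoc v v a, P.mv.sq]
    simp
  have hr : ∀ (c : ZMod p) (w : Module.End (ZMod p) M),
      P.units.ρ c * w = c • ((a * v + v * a) * w) := fun c w => smul_mul_assoc c _ w
  have h1 : P.units.ρ 1 = a * v + v * a := P.units.one_sum
  simp only [UnitSys.psi, hr, h1, show P.units.s = a from rfl, show P.units.t = v from rfl,
    diagSL, Matrix.of_apply, Matrix.cons_val', Matrix.cons_val_zero, Matrix.cons_val_one,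
    Matrix.cons_val_fin_one, zero_smul, add_zero, ea, ev, sub_smul, one_smul]
  abel

end H51
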